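import Groth.Agent.H15Site.DescHyper.UnivLevel

/-!
# Augmented diagrams over a base, and the double nerve of a map of simplicial spaces
-/

set_option autoImplicit false
set_option linter.style.haveILetI false
set_option linter.unusedSectionVars false
set_option backward.isDefEq.respectTransparency false
set_option backward.isDefEq.respectTransparency.types false

universe u

open CategoryTheory CategoryTheory.Limits Opposite Simplicial
open Groth.Agent.H15Site.OpensFib Groth.Agent.H15Site.DescSimp Groth.Agent.H15Site.DescTri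

noncomputable section

namespace Groth.Agent.H15Site.DescHyper

variable {S : TopCat.{u}}

/-- A map of diagrams over the base from a map of augmented spaces. -/
def overYMap {Y Y' : OpensFib.K Δ ⥤ TopCat.{u}} (α : Y ⟶ Y') (b : base Y ⟶ S) (b' : base Y' ⟶ S)
    (hb : α.app (FibDesc.bot Δ) ≫ b' = b) : overY Y b ⟶ overY Y' b' where
  app k := Over.homMk (α.app k) (by
    show α.app k ≫ tB Y' k ≫ b' = tB Y k ≫ b
    rw [← hb, ← Category.assoc, ← α.naturality, Category.assoc])
  naturality k k' β := Over.OverMorphism.ext (α.naturality β)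

variable (K : SimplicialObject (Over S))

/-- The augmented diagram of a simplicial object over the base. -/
def augS : OpensFib.K Δ ⥤ Over S where
  obj k := match k.unop with
    | .star => Over.mk (𝟙 S)
    | .of n => K.obj (op n)
  map {k l} f := match k, l, f with
    | ⟨.star⟩, ⟨.star⟩, _ => 𝟙 _
    | ⟨.of n⟩, ⟨.star⟩, _ => Over.homMk (K.obj (op n)).hom (Category.comp_id _)
    | ⟨.of _⟩, ⟨.of _⟩, f => K.map (WithInitial.down f.unop).op
  map_id k := by
    match k with
    | ⟨.star⟩ => rfl
    | ⟨.of n⟩ => exact K.map_id _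
  map_comp {k l m} f g := by
    match k, l, m, f, g with
    | ⟨.star⟩, ⟨.star⟩, ⟨.star⟩, _, _ => exact (Category.id_comp _).symm
    | ⟨.of n⟩, ⟨.star⟩, ⟨.star⟩, _, _ => exact (Category.comp_id _).symm
    | ⟨.of n⟩, ⟨.of n'⟩, ⟨.star⟩, f, _ =>
      exact Over.OverMorphism.ext (Over.w (K.map (WithInitial.down f.unop).op)).symm
    | ⟨.of n⟩, ⟨.of n'⟩, ⟨.of n''⟩, f, g =>
      exact (congrArg K.map (show (WithInitial.down (f ≫ g).unop).op =
        (WithInitial.down f.unop).op ≫ (WithInitial.down g.unop).op from rfl)).trans (K.map_comp _ _)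

variable {K} {L : SimplicialObject (Over S)}

/-- Functoriality of the augmented diagram. -/
def augMap (φ : K ⟶ L) : augS K ⟶ augS L where
  app k := match k with
    | ⟨.star⟩ => 𝟙 _
    | ⟨.of n⟩ => φ.app (op n)
  naturality {k l} f := by
    match k, l, f with
    | ⟨.star⟩, ⟨.star⟩, _ => rfl
    | ⟨.of n⟩, ⟨.star⟩, _ => exact (Category.comp_id _).trans (Over.OverMorphism.ext (Over.w (φ.app (op n))).symm)
    | ⟨.of n⟩, ⟨.of n'⟩, f => exact φ.naturality _

/-- The map of nerves of a commutative square. -/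
def cechMap {X Y X' Y' : TopCat.{u}} (f : X ⟶ Y) (f' : X' ⟶ Y') (a : X ⟶ X') (b : Y ⟶ Y') (w : a ≫ f' = f ≫ b) :
    FibDesc.cechAug f ⟶ FibDesc.cechAug f' :=
  AugmentedSimplexCategory.equivAugmentedSimplicialObject.inverse.map
    (SimplicialObject.augmentedCechNerve.map (Arrow.homMk a b w : Arrow.mk f ⟶ Arrow.mk f'))

lemma cechMap_app_bot {X Y X' Y' : TopCat.{u}} (f : X ⟶ Y) (f' : X' ⟶ Y') (a : X ⟶ X') (b : Y ⟶ Y')
    (w : a ≫ f' = f ≫ b) : (cechMap f f' a b w).app (FibDesc.bot Δ) = b := rfl

lemma cechMap_π {X Y X' Y' : TopCat.{u}} (f : X ⟶ Y) (f' : X' ⟶ Y') (a : X ⟶ X') (b : Y ⟶ Y')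
    (w : a ≫ f' = f ≫ b) (j : Δ) (i : Fin (j.len + 1)) :
    (cechMap f f' a b w).app (op (WithInitial.of j)) ≫ WidePullback.π (fun _ : Fin (j.len + 1) => f') i =
      WidePullback.π (fun _ : Fin (j.len + 1) => f) i ≫ a :=
  WidePullback.lift_π _ _ _ _ _

variable (φ : K ⟶ L)

/-- The double nerve. -/
def Bi : OpensFib.K Δ ⥤ OpensFib.K Δ ⥤ Over S where
  obj k := overY (FibDesc.cechAug ((augMap φ).app k).left) ((augS L).obj k).hom
  map {k l} f := overYMap (cechMap _ _ ((augS K).map f).left ((augS L).map f).left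
      (congrArg CommaMorphism.left ((augMap φ).naturality f))) _ _
    (Over.w ((augS L).map f))
  map_id k := by
    refine NatTrans.ext (funext fun l => Over.OverMorphism.ext ?_)
    match l with
    | ⟨.star⟩ => exact congrArg CommaMorphism.left ((augS L).map_id k)
    | ⟨.of j⟩ =>
      refine WidePullback.hom_ext (fun _ : Fin (j.len + 1) => ((augMap φ).app k).left) _ _ (fun i => ?_) ?_
      · refine (cechMap_π _ _ _ _ _ j i).trans ?_
        rw [(augS K).map_id]
        exact (Category.comp_id _).trans (Category.id_comp _).symm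
      · refine (WidePullback.lift_base _ _ _ _).trans ?_
        show _ ≫ ((augS L).map (𝟙 k)).left = _
        rw [(augS L).map_id]
        exact (Category.comp_id _).trans (Category.id_comp _).symm
  map_comp {k k' k''} f g := by
    refine NatTrans.ext (funext fun l => Over.OverMorphism.ext ?_)
    match l with
    | ⟨.star⟩ => exact congrArg CommaMorphism.left ((augS L).map_comp f g)
    | ⟨.of j⟩ =>
      refine WidePullback.hom_ext (fun _ : Fin (j.len + 1) => ((augMap φ).app k'').left) _ _ (fun i => ?_) ?_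
      · refine (cechMap_π _ _ _ _ _ j i).trans ?_
        refine Eq.trans ?_ (Category.assoc _ _ _).symm
        refine Eq.trans ?_ (congrArg (_ ≫ ·) (cechMap_π _ _ _ _ _ j i)).symm
        refine Eq.trans ?_ (Category.assoc _ _ _)
        refine Eq.trans ?_ (congrArg (· ≫ ((augS K).map g).left) (cechMap_π _ _ _ _ _ j i)).symm
        rw [(augS K).map_comp]
        exact (Category.assoc _ _ _).symm
      · refine (WidePullback.lift_base _ _ _ _).trans ?_
        refine Eq.trans ?_ (Category.assoc _ _ _).symm
        refine Eq.trans ?_ (congrArg (_ ≫ ·) (WidePullback.lift_base _ _ _ _)).symm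
        refine Eq.trans ?_ (Category.assoc _ _ _)
        refine Eq.trans ?_ (congrArg (· ≫ ((augS L).map g).left) (WidePullback.lift_base _ _ _ _)).symm
        show _ ≫ ((augS L).map (f ≫ g)).left = _
        rw [(augS L).map_comp]
        exact (Category.assoc _ _ _).symm

/-- The bottom row. -/
def biRowBot : (Bi φ).flip.obj (FibDesc.bot Δ) ≅ augS L :=
  NatIso.ofComponents (fun k => Over.isoMk (Iso.refl _) (by
      show 𝟙 _ ≫ ((augS L).obj k).hom = tB (FibDesc.cechAug ((augMap φ).app k).left) (op WithInitial.star) ≫ _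
      rw [tB_star]))
    (fun f => Over.OverMorphism.ext ((Category.comp_id _).trans (Category.id_comp _).symm))

/-- The single fibre power. -/
def powerOne {X Y : TopCat.{u}} (f : X ⟶ Y) : CechSplit.P f 1 ≅ X where
  hom := WidePullback.π (fun _ : Fin 1 => f) 0
  inv := WidePullback.lift f (fun _ => 𝟙 X) (fun _ => Category.id_comp f)
  hom_inv_id := by
    refine WidePullback.hom_ext _ _ _ (fun i => ?_) ?_
    · obtain rfl : i = 0 := Subsingleton.elim _ _
      simp
    · simp
  inv_hom_id := by simp

/-- The first row. -/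
def biRowZero : (Bi φ).flip.obj (op (WithInitial.of ⦋0⦌)) ≅ augS K :=
  NatIso.ofComponents (fun k => Over.isoMk (powerOne ((augMap φ).app k).left) (by
      show WidePullback.π (fun _ : Fin 1 => ((augMap φ).app k).left) 0 ≫ ((augS K).obj k).hom =
        tB (FibDesc.cechAug ((augMap φ).app k).left) (op (WithInitial.of ⦋0⦌)) ≫ ((augS L).obj k).hom
      rw [tB_cech, ← Over.w ((augMap φ).app k), WidePullback.π_arrow_assoc]))
    (fun f => Over.OverMorphism.ext (cechMap_π _ _ _ _ _ ⦋0⦌ 0))

end Groth.Agent.H15Site.DescHyper
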