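import Groth.Agent.H15Site.DescTri.Cone

/-!
# Exactness in the corner of a triple complex with homotopically constant rows
-/

set_option autoImplicit false
set_option linter.style.haveILetI false
set_option linter.unusedSectionVars false
set_option backward.isDefEq.respectTransparency false

universe u v

open CategoryTheory CategoryTheory.Limits
open Groth.Agent.H15Site.DoubleSS (Dbl sgn sgn_pred)
open Groth.Agent.H15Site.DescTri

namespace Groth.Agent.H15Site.DescHyper

section Seq

variable {G : ℤ → Type v} [∀ m, AddCommGroup (G m)] (δ : ∀ m, G m →+ G m) (f : ∀ m m', G m →+ G m')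
  (hff : ∀ a b c, a + 1 = b → b + 1 = c → ∀ x, f b c (f a b x) = 0)
  (hfδ : ∀ a b, a + 1 = b → ∀ x, f a b (δ a x) + δ b (f a b x) = 0)
  (h0 : ∀ z : G 0, δ 0 z = 0 → ∃ y, δ 1 y = f 0 1 z)
  (hH : ∀ a b c, a + 1 = b → b + 1 = c → 0 ≤ a → ∀ x : G b, δ b x = 0 → (∃ y, δ c y = f b c x) →
    ∃ w : G a, δ a w = 0 ∧ ∃ y, δ b y = x - f a b w)

include hff hfδ h0 hH in
/-- A cycle in degree zero extends to a cycle supported in degrees `≥ 0`. -/
theorem exists_cycle_zero (z : G 0) (hz : δ 0 z = 0) :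
    ∃ Z : ∀ m, G m, Z 0 = z ∧ (∀ m, m < 0 → Z m = 0) ∧ ∀ a b, a + 1 = b → f a b (Z a) + δ b (Z b) = 0 := by
  let P : ℕ → Type v := fun k => {b : G (Int.ofNat k) // ∃ y, δ (Int.ofNat (k + 1)) y = f (Int.ofNat k) (Int.ofNat (k + 1)) b}
  have step : ∀ (k : ℕ) (x : P k), ∃ c : P (k + 1), f (Int.ofNat k) (Int.ofNat (k + 1)) x.1 + δ _ c.1 = 0 := by
    rintro k ⟨b, y, hy⟩
    have e1 : Int.ofNat k + 1 = Int.ofNat (k + 1) := rfl
    have e2 : Int.ofNat (k + 1) + 1 = Int.ofNat (k + 2) := rfl
    have e3 : Int.ofNat (k + 2) + 1 = Int.ofNat (k + 3) := rfl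
    have hc : δ (Int.ofNat (k + 2)) (f (Int.ofNat (k + 1)) (Int.ofNat (k + 2)) (-y)) = 0 := by
      have h := hfδ _ _ e2 (-y)
      rw [map_neg, hy, map_neg, hff _ _ _ e1 e2, neg_zero, zero_add] at h
      exact h
    obtain ⟨w, hw, y', hy'⟩ := hH _ _ _ e2 e3 (Int.natCast_nonneg _) _ hc
      ⟨0, by rw [map_zero, hff _ _ _ e2 e3]⟩
    refine ⟨⟨-y - w, y', ?_⟩, ?_⟩
    · rw [map_sub]; exact hy'
    · show f _ _ b + δ _ (-y - w) = 0
      rw [map_sub, map_neg, hy, hw, sub_zero, add_neg_cancel]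
  choose nx hnx using step
  let start : P 0 := ⟨z, h0 z hz⟩
  let seq : ∀ k, P k := fun k => Nat.rec start (fun k x => nx k x) k
  let Z : ∀ m, G m := fun m => match m with
    | Int.ofNat k => (seq k).1
    | Int.negSucc _ => 0
  refine ⟨Z, rfl, fun m hm => ?_, fun a b hab => ?_⟩
  · match m with
    | Int.ofNat k => exact absurd hm (not_lt.2 (Int.natCast_nonneg k))
    | Int.negSucc j => rfl
  · match a, b, hab with
    | Int.ofNat k, _, rfl => exact hnx k (seq k)
    | Int.negSucc 0, _, rfl =>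
      show f (Int.negSucc 0) 0 0 + δ 0 z = 0
      rw [map_zero, zero_add, hz]
    | Int.negSucc (j + 1), _, rfl =>
      exact (congrArg₂ (fun u v : G (Int.negSucc (j + 1) + 1) => u + v) (map_zero (f _ _))
        (map_zero (δ _))).trans (add_zero _)

end Seq

section Tw

variable {D : Dbl.{u}}

/-- The change of signs by `c`. -/
def tw (c : ℤ) : Fam D →+ Fam D where
  toFun x p q := sgn (c * q) • x p q
  map_zero' := funext fun _ => funext fun _ => smul_zero _
  map_add' x y := funext fun _ => funext fun _ => smul_add _ _ _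

lemma tw_tw (c : ℤ) (x : Fam D) : tw c (tw c x) = x := funext fun p => funext fun q => by
  show sgn (c * q) • sgn (c * q) • x p q = x p q
  rw [smul_smul, sgn_mul_self, one_smul]

lemma dTw_tw (c : ℤ) (x : Fam D) : dTw D 0 (tw c x) = tw c (dTw D c x) :=
  funext fun p => funext fun q => dTw_twist D c x p q

/-- The sign of the total degree. -/
def par : Fam D →+ Fam D where
  toFun x p q := sgn (p + q) • x p q
  map_zero' := funext fun _ => funext fun _ => smul_zero _
  map_add' x y := funext fun _ => funext fun _ => smul_add _ _ _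

lemma par_par (x : Fam D) : par (par x) = x := funext fun p => funext fun q => by
  show sgn (p + q) • sgn (p + q) • x p q = x p q
  rw [smul_smul, sgn_mul_self, one_smul]

lemma dTw_par (x : Fam D) : dTw D 0 (par x) = -par (dTw D 0 x) := by
  funext p q
  show ((D.d (p - 1) p).f q).hom (sgn (p - 1 + q) • x (p - 1) q) +
      (sgn p * sgn 0) • ((D.X p).d (q - 1) q).hom (sgn (p + (q - 1)) • x p (q - 1)) =
    -(sgn (p + q) • (((D.d (p - 1) p).f q).hom (x (p - 1) q) +
      (sgn p * sgn 0) • ((D.X p).d (q - 1) q).hom (x p (q - 1))))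
  rw [map_zsmul, map_zsmul, sgn_zero, mul_one, show p - 1 + q = p + q - 1 by ring,
    show p + (q - 1) = p + q - 1 by ring, sgn_pred]
  module

lemma gF_par {D' : Dbl.{u}} (g : D ⟶ D') (x : Fam D) : gF g (par x) = par (gF g x) :=
  funext fun p => funext fun q => map_zsmul ((g.f p).f q).hom _ _

end Tw

section Tri

variable (T : CochainComplex Dbl.{u} ℤ)

/-- The middle differential between the double complexes in the first and last directions. -/
noncomputable abbrev dU (n n' : ℤ) : U T n ⟶ U T n' := (HomologicalComplex₂.flip T).d n n'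

lemma tw_fU (n n' : ℤ) (h : n + 1 = n') (x : Fam (U T n)) :
    tw n' (fU T n n' x) = par (gF (dU T n n') (tw n x)) := by
  subst h
  funext m q
  show sgn ((n + 1) * q) • sgn m • (((T.X m).d n (n + 1)).f q).hom (x m q) =
    sgn (m + q) • (((T.X m).d n (n + 1)).f q).hom (sgn (n * q) • x m q)
  rw [map_zsmul, smul_smul, smul_smul]
  congr 1
  simp only [sgn, ← Units.val_mul, ← Int.negOnePow_add]
  congr 2
  ring

variable (hm : ∀ m n q, m < -1 → ∀ x : ((T.X m).X n).X q, x = 0)
  (hn : ∀ m n q, n < -1 → ∀ x : ((T.X m).X n).X q, x = 0)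

include hm hn in
/-- **Exactness in the corner.** -/
theorem totExact_corner (hT : ∀ m, TotExact (T.X m)) (hU : TotExact (U T (-1)))
    (h0 : ∀ z : Fam (U T 0), dTw _ 0 z = 0 → ∃ y, dTw (U T 1) 0 y = gF (dU T 0 1) z)
    (hH : ∀ a b c, a + 1 = b → b + 1 = c → 0 ≤ a → ∀ x : Fam (U T b), dTw _ 0 x = 0 →
      (∃ y, dTw (U T c) 0 y = gF (dU T b c) x) →
        ∃ w : Fam (U T a), dTw _ 0 w = 0 ∧ ∃ y, dTw (U T b) 0 y = x - gF (dU T a b) w) :
    TotExact (U T 0) := by
  intro z hz
  have inj : ∀ n {a b : Fam (U T n)}, tw n a = tw n b → a = b := fun n a b h => by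
    rw [← tw_tw n a, h, tw_tw]
  obtain ⟨Z, hZ₀, hZneg, hZ⟩ := exists_cycle_zero (G := fun n => Fam (U T n)) (δU T) (fU T)
    (fun a b c hab hbc x => by
      subst hab hbc
      funext m q
      show sgn m • (((T.X m).d (a + 1) (a + 1 + 1)).f q).hom (sgn m • (((T.X m).d a (a + 1)).f q).hom (x m q)) = 0
      rw [map_zsmul, show (((T.X m).d (a + 1) (a + 1 + 1)).f q).hom ((((T.X m).d a (a + 1)).f q).hom (x m q)) = 0 from
        ConcreteCategory.congr_hom (congrArg (fun φ : (T.X m).X a ⟶ (T.X m).X (a + 1 + 1) => φ.f q)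
          ((T.X m).d_comp_d a (a + 1) (a + 1 + 1))) _, smul_zero, smul_zero])
    (fun a b hab x => by
      obtain rfl : a = b - 1 := by omega
      funext m q
      show sgn m • (((T.X m).d (b - 1) b).f q).hom
          ((((T.d (m - 1) m).f (b - 1)).f q).hom (x (m - 1) q) +
            (sgn m * sgn (b - 1)) • (((T.X m).X (b - 1)).d (q - 1) q).hom (x m (q - 1))) +
        ((((T.d (m - 1) m).f b).f q).hom (sgn (m - 1) • (((T.X (m - 1)).d (b - 1) b).f q).hom (x (m - 1) q)) +
            (sgn m * sgn b) • (((T.X m).X b).d (q - 1) q).hom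
              (sgn m • (((T.X m).d (b - 1) b).f (q - 1)).hom (x m (q - 1)))) = 0
      rw [map_add, map_zsmul, map_zsmul, map_zsmul, comm_mn, comm_nq, sgn_pred, sgn_pred, smul_add]
      simp only [smul_smul, neg_smul, mul_neg]
      module)
    (fun x hx => by
      have hx' : dTw _ 0 (tw 0 x) = 0 := by
        rw [dTw_tw, hx, map_zero]
      obtain ⟨y, hy⟩ := h0 _ hx'
      refine ⟨tw 1 (-par y), inj 1 ?_⟩
      rw [tw_fU T 0 1 rfl, ← hy, ← dTw_tw, tw_tw, map_neg, dTw_par, neg_neg])
    (fun a b c hab hbc ha x hx => by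
      rintro ⟨y, hy⟩
      have hx' : dTw _ 0 (tw b x) = 0 := by rw [dTw_tw, hx, map_zero]
      obtain ⟨w, hw, y₀, hy₀⟩ := hH a b c hab hbc ha _ hx' ⟨-par (tw c y), by
        rw [map_neg, dTw_par, neg_neg, dTw_tw, hy, tw_fU T b c hbc, par_par]⟩
      refine ⟨tw a (par w), inj a ?_, tw b y₀, inj b ?_⟩
      · rw [← dTw_tw, tw_tw, dTw_par, hw, map_zero, neg_zero, map_zero]
      · rw [← dTw_tw, tw_tw, hy₀, map_sub, tw_fU T a b hab, tw_tw, gF_par, par_par])
    z hz
  obtain ⟨w, hw⟩ := exists_primitive (G := fun m => Fam (T.X m)) (δT T) (fT T)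
    (fun m x => funext fun n => funext fun q => sq_m T m n q _)
    (fun m x => by
      funext n q
      show (((T.d (m - 1) m).f n).f q).hom (sgn (m - 1) • ((((T.X (m - 1)).d (n - 1) n).f q).hom (x (n - 1) q) +
          (sgn n * sgn 0) • (((T.X (m - 1)).X n).d (q - 1) q).hom (x n (q - 1)))) +
        sgn m • ((((T.X m).d (n - 1) n).f q).hom ((((T.d (m - 1) m).f (n - 1)).f q).hom (x (n - 1) q)) +
          (sgn n * sgn 0) • (((T.X m).X n).d (q - 1) q).hom ((((T.d (m - 1) m).f n).f (q - 1)).hom (x n (q - 1)))) = 0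
      rw [map_zsmul, map_add, map_zsmul, comm_mn, comm_mq, sgn_pred]
      simp only [smul_add, smul_smul, neg_smul]
      module)
    (fun m hm' x => funext fun n => funext fun q => hm m n q hm' _)
    (fun m x hx => by
      have h1 : dTw (T.X m) 0 x = 0 := by
        have := congrArg (sgn m • ·) hx
        simp only [δT, AddMonoidHom.smul_apply, smul_smul, sgn_mul_self, one_smul, smul_zero] at this
        exact this
      obtain ⟨y, hy⟩ := hT m x h1
      exact ⟨sgn m • y, by
        simp only [δT, AddMonoidHom.smul_apply, map_zsmul, hy, smul_smul, sgn_mul_self, one_smul]⟩)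
    (fun m n q => Z n m q)
    (fun m => funext fun n => funext fun q => by
      have h := congrFun (congrFun (hZ (n - 1) n (by omega)) m) q
      change sgn m • (((T.X m).d (n - 1) n).f q).hom (Z (n - 1) m q) +
        ((((T.d (m - 1) m).f n).f q).hom (Z n (m - 1) q) +
          (sgn m * sgn n) • (((T.X m).X n).d (q - 1) q).hom (Z n m (q - 1))) = 0 at h
      refine Eq.trans ?_ h
      show (((T.d (m - 1) m).f n).f q).hom (Z n (m - 1) q) +
        sgn m • ((((T.X m).d (n - 1) n).f q).hom (Z (n - 1) m q) +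
          (sgn n * sgn 0) • (((T.X m).X n).d (q - 1) q).hom (Z n m (q - 1))) = _
      rw [sgn_zero, mul_one, smul_add, smul_smul]
      module)
  let W : ∀ n, Fam (U T n) := fun n m q => w m n q
  have key : ∀ n, fU T (n - 1) n (W (n - 1)) + δU T n (W n) = Z n := fun n => funext fun m => funext fun q => by
    have h := congrFun (congrFun (hw m) n) q
    change (((T.d (m - 1) m).f n).f q).hom (w (m - 1) n q) +
      sgn m • ((((T.X m).d (n - 1) n).f q).hom (w m (n - 1) q) +
        (sgn n * sgn 0) • (((T.X m).X n).d (q - 1) q).hom (w m n (q - 1))) = Z n m q at h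
    refine Eq.trans ?_ h
    show sgn m • (((T.X m).d (n - 1) n).f q).hom (w m (n - 1) q) +
      ((((T.d (m - 1) m).f n).f q).hom (w (m - 1) n q) +
        (sgn m * sgn n) • (((T.X m).X n).d (q - 1) q).hom (w m n (q - 1))) = _
    rw [sgn_zero, mul_one, smul_add, smul_smul]
    module
  have h1 : δU T (-1) (W (-1)) = 0 := by
    have h := key (-1)
    rw [show W (-1 - 1) = 0 from funext fun m => funext fun q => hn m _ q (by omega) _, map_zero,
      zero_add, hZneg (-1) (by omega)] at h
    exact h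
  obtain ⟨v, hv⟩ := hU.twist (-1) (W (-1)) h1
  refine ⟨W 0 - fU T (-1) 0 v, funext fun m => funext fun q => ?_⟩
  have h2 : δU T 0 (W 0) + fU T (-1) 0 (W (-1)) = z := by
    rw [add_comm, ← hZ₀]
    exact key 0
  have h3 : fU T (-1) 0 (δU T (-1) v) + δU T 0 (fU T (-1) 0 v) = 0 := by
    funext m q
    show sgn m • (((T.X m).d (-1) 0).f q).hom
        ((((T.d (m - 1) m).f (-1)).f q).hom (v (m - 1) q) +
          (sgn m * sgn (-1)) • (((T.X m).X (-1)).d (q - 1) q).hom (v m (q - 1))) +
      ((((T.d (m - 1) m).f 0).f q).hom (sgn (m - 1) • (((T.X (m - 1)).d (-1) 0).f q).hom (v (m - 1) q)) +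
          (sgn m * sgn 0) • (((T.X m).X 0).d (q - 1) q).hom
            (sgn m • (((T.X m).d (-1) 0).f (q - 1)).hom (v m (q - 1)))) = 0
    rw [map_add, map_zsmul, map_zsmul, map_zsmul, comm_mn, comm_nq, sgn_pred, sgn_zero,
      show sgn (-1) = -1 by simp [sgn], smul_add]
    simp only [smul_smul, neg_smul, mul_neg, mul_one]
    module
  refine congrFun (congrFun ?_ m) q
  show δU T 0 (W 0 - fU T (-1) 0 v) = z
  rw [map_sub, sub_eq_add_neg, ← eq_neg_of_add_eq_zero_left h3, ← h2]
  exact congrArg (δU T 0 (W 0) + fU T (-1) 0 ·) hv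

end Tri

end Groth.Agent.H15Site.DescHyper
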