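import Groth.Agent.H15Site.DescHyper.Rel

/-!
# Homotopies of maps into relatively coskeletal objects
-/

set_option autoImplicit false
set_option linter.style.haveILetI false
set_option linter.unusedSectionVars false
set_option backward.isDefEq.respectTransparency false

universe v u

open CategoryTheory CategoryTheory.Limits Opposite Simplicial

noncomputable section

namespace Groth.Agent.H15Site.DescHyper

variable {E : Type u} [Category.{v} E] {U K L : SimplicialObject E} {φ : K ⟶ L} {n : ℕ}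
variable (F G : U ⟶ K)

/-- `G` on the constant simplex `1`, `F` elsewhere. -/
def pick {i : ℕ} (s : ⦋i⦌ ⟶ ⦋1⦌) : U _⦋i⦌ ⟶ K _⦋i⦌ :=
  if s = SimplexCategory.const ⦋i⦌ ⦋1⦌ 1 then G.app (op ⦋i⦌) else F.app (op ⦋i⦌)

variable {F G} (hFG : F ≫ φ = G ≫ φ)

lemma pick_φ (hFG : F ≫ φ = G ≫ φ) {i : ℕ} (s : ⦋i⦌ ⟶ ⦋1⦌) :
    pick F G s ≫ φ.app (op ⦋i⦌) = (F ≫ φ).app (op ⦋i⦌) := by
  rw [pick]
  split_ifs
  · rw [hFG]; rfl
  · rfl

/-- Two maps with the same image in `L` are connected by a family indexed by the interval. -/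
theorem exists_family (h : Rel φ n) (hFG : F ≫ φ = G ≫ φ) :
    ∃ H : ∀ (m : ℕ), (⦋m⦌ ⟶ ⦋1⦌) → (U _⦋m⦌ ⟶ K _⦋m⦌),
      (∀ (m m' : ℕ) (g : ⦋m'⦌ ⟶ ⦋m⦌) (t : ⦋m⦌ ⟶ ⦋1⦌),
        U.map g.op ≫ H m' (g ≫ t) = H m t ≫ K.map g.op) ∧
      (∀ m, H m (SimplexCategory.const ⦋m⦌ ⦋1⦌ 0) = F.app (op ⦋m⦌)) ∧
      (∀ m, H m (SimplexCategory.const ⦋m⦌ ⦋1⦌ 1) = G.app (op ⦋m⦌)) ∧
      ∀ m t, H m t ≫ φ.app (op ⦋m⦌) = (F ≫ φ).app (op ⦋m⦌) := by
  have hl : ∀ (m : ℕ) (t : ⦋m⦌ ⟶ ⦋1⦌), ∃ x : U _⦋m⦌ ⟶ K _⦋m⦌,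
      x ≫ φ.app (op ⦋m⦌) = (F ≫ φ).app (op ⦋m⦌) ∧
        ∀ σ : ⦋n⦌ ⟶ ⦋m⦌, Mono σ → x ≫ K.map σ.op = U.map σ.op ≫ pick F G (σ ≫ t) := fun m t =>
    h.lift ((F ≫ φ).app (op ⦋m⦌)) (fun σ _ => U.map σ.op ≫ pick F G (σ ≫ t))
      (fun σ _ => by rw [Category.assoc, pick_φ hFG, (F ≫ φ).naturality])
  choose H hH hH' using hl
  have low : ∀ {i j : ℕ} (_ : j < n) (e : ⦋i⦌ ⟶ ⦋j⦌) (s : ⦋i⦌ ⟶ ⦋1⦌),
      U.map e.op ≫ pick F G s = U.map e.op ≫ F.app (op ⦋i⦌) := by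
    intro i j hj e s
    haveI := h.iso j hj
    have e1 : F.app (op ⦋j⦌) = G.app (op ⦋j⦌) := by
      rw [← cancel_mono (φ.app (op ⦋j⦌))]
      exact congrArg (fun ψ => ψ.app (op ⦋j⦌)) hFG
    rw [pick]
    split_ifs
    · rw [G.naturality, F.naturality, e1]
    · rfl
  refine ⟨H, fun m m' g t => h.ext _ _ ?_ fun σ hσ => ?_, fun m => h.ext _ _ ?_ fun σ hσ => ?_,
    fun m => h.ext _ _ ?_ fun σ hσ => ?_, hH⟩
  · rw [Category.assoc, hH, Category.assoc, φ.naturality, ← Category.assoc, hH, (F ≫ φ).naturality]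
  · rw [Category.assoc, hH' m' _ σ hσ, Category.assoc, ← Functor.map_comp, ← op_comp, ← Category.assoc σ g t,
      ← Category.assoc, ← Functor.map_comp, ← op_comp]
    by_cases hg : Mono (σ ≫ g)
    · exact (hH' m t _ hg).symm
    · obtain ⟨j, hj, e, b, hab⟩ := exists_lt_of_not_mono _ hg
      haveI := h.iso j hj
      have h1 : H m t ≫ K.map b.op = U.map b.op ≫ F.app (op ⦋j⦌) := by
        rw [← cancel_mono (φ.app (op ⦋j⦌)), Category.assoc, φ.naturality, ← Category.assoc, hH,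
          ← (F ≫ φ).naturality, Category.assoc]
        rfl
      rw [← hab, op_comp, Functor.map_comp, Functor.map_comp, Category.assoc, low hj, F.naturality,
        ← Category.assoc (H m t), h1, Category.assoc]
  · rw [hH]; rfl
  · rw [hH' m _ σ hσ, pick, if_neg, F.naturality]
    intro hc
    exact absurd (congrArg (fun q => q.toOrderHom 0) hc) (by simp)
  · rw [hH, hFG]; rfl
  · rw [hH' m _ σ hσ, pick, if_pos, G.naturality]
    ext
    rfl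

end Groth.Agent.H15Site.DescHyper
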