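import Groth.Agent.H15Site.DescTri.Sect
import Mathlib.AlgebraicTopology.SimplicialObject.ChainHomotopy
import Mathlib.AlgebraicTopology.AlternatingFaceMapComplex

/-!
# Homotopic maps agree on totalised cycles
-/

set_option autoImplicit false
set_option linter.style.haveILetI false
set_option linter.unusedSectionVars false
set_option backward.isDefEq.respectTransparency false
set_option backward.isDefEq.respectTransparency.types false

universe u w

open CategoryTheory CategoryTheory.Limits Opposite Simplicial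
open Groth.Agent.H15Site.DoubleSS (Dbl sgn sgn_pred)
open Groth.Agent.H15Site.OpensFib Groth.Agent.H15Site.DescSimp Groth.Agent.H15Site.DescTri

noncomputable section

namespace Groth.Agent.H15Site.DescHyper

/-- Maps related by a homotopy in the first direction agree on cycles up to boundaries. -/
theorem exists_dTw_of_homotopy {D D' : Dbl.{u}} (φ ψ : D ⟶ D')
    (k : ∀ p p' : ℤ, p + 1 = p' → (D.X p' ⟶ D'.X p))
    (hk : ∀ a b c (hab : a + 1 = b) (hbc : b + 1 = c),
      φ.f b = D.d b c ≫ k b c hbc + k a b hab ≫ D'.d a b + ψ.f b)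
    (x : Fam D) (hx : dTw D 0 x = 0) : ∃ y, dTw D' 0 y = gF φ x - gF ψ x := by
  refine ⟨fun p q => ((k p (p + 1) rfl).f q).hom (x (p + 1) q), funext fun p => funext fun q => ?_⟩
  show ((D'.d (p - 1) p).f q).hom (((k (p - 1) (p - 1 + 1) rfl).f q).hom (x (p - 1 + 1) q)) +
      (sgn p * sgn 0) • ((D'.X p).d (q - 1) q).hom (((k p (p + 1) rfl).f (q - 1)).hom (x (p + 1) (q - 1))) =
    ((φ.f p).f q).hom (x p q) - ((ψ.f p).f q).hom (x p q)
  have gen : ∀ b (h : p - 1 + 1 = b), ((k (p - 1) (p - 1 + 1) rfl).f q).hom (x (p - 1 + 1) q) =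
      ((k (p - 1) b h).f q).hom (x b q) := by
    intro b h; subst h; rfl
  rw [gen p (by omega), hk (p - 1) p (p + 1) (by omega) rfl]
  have hcomm : ((D'.X p).d (q - 1) q).hom (((k p (p + 1) rfl).f (q - 1)).hom (x (p + 1) (q - 1))) =
      ((k p (p + 1) rfl).f q).hom (((D.X (p + 1)).d (q - 1) q).hom (x (p + 1) (q - 1))) :=
    ConcreteCategory.congr_hom ((k p (p + 1) rfl).comm (q - 1) q) _
  have hcyc : ((D.d p (p + 1)).f q).hom (x p q) +
      (sgn (p + 1) * sgn 0) • ((D.X (p + 1)).d (q - 1) q).hom (x (p + 1) (q - 1)) = 0 := by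
    have h := congrFun (congrFun hx (p + 1)) q
    have gen2 : ∀ a (_ : a = p), ((D.d a (p + 1)).f q).hom (x a q) = ((D.d p (p + 1)).f q).hom (x p q) := by
      rintro a rfl; rfl
    rw [← gen2 (p + 1 - 1) (by omega)]
    exact h
  have hcyc' := congrArg ((k p (p + 1) rfl).f q).hom hcyc
  rw [map_add, map_zsmul, map_zero, sgn_zero, mul_one, show sgn (p + 1) = -sgn p by
    rw [show p = p + 1 - 1 by ring, sgn_pred, show p + 1 - 1 + 1 = p + 1 by ring, neg_neg]] at hcyc'
  rw [hcomm, sgn_zero, mul_one]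
  show _ = ((k p (p + 1) rfl).f q).hom (((D.d p (p + 1)).f q).hom (x p q)) +
    ((D'.d (p - 1) p).f q).hom (((k (p - 1) p (by omega)).f q).hom (x p q)) + ((ψ.f p).f q).hom (x p q) -
      ((ψ.f p).f q).hom (x p q)
  rw [add_sub_cancel_right, eq_neg_of_add_eq_zero_left hcyc']
  module

section Simplicial

variable {A : Type w} [Category.{u} A] [Preadditive A] [HasZeroObject A]
variable {Z Z' : WithInitial Δ ⥤ A} (α β : Z ⟶ Z')

/-- The simplicial object in the opposite category. -/
abbrev opSimp (Z : WithInitial Δ ⥤ A) : SimplicialObject Aᵒᵖ := (WithInitial.incl ⋙ Z).op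

/-- The homotopy components. -/
def altHom (h : ∀ n : ℕ, Z.obj (ix (n + 2)) ⟶ Z'.obj (ix (n + 1))) : ∀ p : ℤ, (altX Z (p + 1) ⟶ altX Z' p) :=
  fun p => match p with
    | Int.ofNat n => h n
    | Int.negSucc _ => 0

/-- A simplicial homotopy away from the augmentation gives a homotopy of augmented complexes. -/
theorem exists_altHomotopy (hbot : α.app (ix 0) = β.app (ix 0))
    (H : SimplicialObject.Homotopy (X := opSimp Z') (Y := opSimp Z)
      (NatTrans.op (Functor.whiskerLeft WithInitial.incl α)) (NatTrans.op (Functor.whiskerLeft WithInitial.incl β))) :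
    ∃ k : ∀ p p' : ℤ, p + 1 = p' → ((altCx Z).X p' ⟶ (altCx Z').X p),
      ∀ a b c (hab : a + 1 = b) (hbc : b + 1 = c),
        (altMap α).f b = (altCx Z).d b c ≫ k b c hbc + k a b hab ≫ (altCx Z').d a b + (altMap β).f b := by
  let C := H.toChainHomotopy
  let h : ∀ n : ℕ, Z.obj (ix (n + 2)) ⟶ Z'.obj (ix (n + 1)) := fun n => (C.hom n (n + 1)).unop
  have hd : ∀ (W : WithInitial Δ ⥤ A) (n : ℕ),
      ((AlgebraicTopology.alternatingFaceMapComplex Aᵒᵖ).obj (opSimp W)).d (n + 1) n =
        (altDiff W (n + 1)).op := fun W n => by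
    rw [AlgebraicTopology.alternatingFaceMapComplex_obj_d, altDiff, op_sum]
    exact Finset.sum_congr rfl fun i _ => (op_zsmul _ _ _).symm
  have h0 : α.app (ix 1) = altDiff Z 1 ≫ h 0 + β.app (ix 1) := by
    have e := C.comm 0
    rw [prevD_eq (j' := 1) (w := by simp), dNext_eq_zero _ _ (by simp), zero_add, hd] at e
    exact congrArg Quiver.Hom.unop e
  have hs : ∀ n, α.app (ix (n + 2)) = altDiff Z (n + 2) ≫ h (n + 1) + h n ≫ altDiff Z' (n + 1) + β.app (ix (n + 2)) := by
    intro n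
    have e := C.comm (n + 1)
    rw [dNext_eq (i' := n) (w := by simp), prevD_eq (j' := n + 2) (w := by simp), hd, hd] at e
    refine (congrArg Quiver.Hom.unop e).trans ?_
    show h n ≫ altDiff Z' (n + 1) + altDiff Z (n + 2) ≫ h (n + 1) + β.app (ix (n + 2)) = _
    rw [add_comm (h n ≫ _)]
  refine ⟨fun p p' hp => hp ▸ altHom h p, fun a b c hab hbc => ?_⟩
  subst hab hbc
  rw [altCx_d, altCx_d]
  show altApp α (a + 1) = altd Z (a + 1) ≫ altHom h (a + 1) + altHom h a ≫ altd Z' a + altApp β (a + 1)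
  match a with
  | Int.ofNat n => exact hs n
  | Int.negSucc 0 =>
    refine h0.trans ?_
    exact congrArg (fun t : Z.obj (ix 1) ⟶ Z'.obj (ix 1) => t + β.app (ix 1))
      ((add_zero (altDiff Z 1 ≫ h 0)).symm.trans (congrArg (fun t : Z.obj (ix 1) ⟶ Z'.obj (ix 1) => altDiff Z 1 ≫ h 0 + t)
        (zero_comp (f := altDiff Z' 0)).symm))
  | Int.negSucc 1 =>
    refine hbot.trans ?_
    exact (zero_add (β.app (ix 0))).symm.trans (congrArg (fun t : Z.obj (ix 0) ⟶ Z'.obj (ix 0) => t + β.app (ix 0))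
      ((zero_add (0 : Z.obj (ix 0) ⟶ Z'.obj (ix 0))).symm.trans
        (congrArg₂ (fun s t : Z.obj (ix 0) ⟶ Z'.obj (ix 0) => s + t) (comp_zero (f := altd Z (Int.negSucc 0))).symm
          (comp_zero (f := (0 : Z.obj (ix 0) ⟶ altX Z' (Int.negSucc 1)))).symm)))
  | Int.negSucc (j + 2) => exact (isZero_altX Z (Int.negSucc (j + 1)) (by omega)).eq_of_src _ _

end Simplicial

theorem exists_dTw_generic {P : Type (u + 1)} [Category.{u} P] (Φ : Pᵒᵖ ⥤ CochainComplex AddCommGrpCat.{u} ℤ)
    {C C' : (WithInitial Δ)ᵒᵖ ⥤ P} (α β : C ⟶ C') (hbot : α.app (op (ix 0)) = β.app (op (ix 0)))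
    (H : SimplicialObject.Homotopy (X := (WithInitial.incl).op ⋙ C) (Y := (WithInitial.incl).op ⋙ C')
      (Functor.whiskerLeft (WithInitial.incl).op α) (Functor.whiskerLeft (WithInitial.incl).op β))
    (x : Fam (altCx (C'.rightOp ⋙ Φ))) (hx : dTw _ 0 x = 0) :
    ∃ y, dTw _ 0 y = gF (altMap (Functor.whiskerRight (NatTrans.rightOp α) Φ)) x -
      gF (altMap (Functor.whiskerRight (NatTrans.rightOp β) Φ)) x := by
  obtain ⟨k, hk⟩ := exists_altHomotopy (Functor.whiskerRight (NatTrans.rightOp α) Φ)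
    (Functor.whiskerRight (NatTrans.rightOp β) Φ)
    (congrArg (fun t => Φ.map (Quiver.Hom.op t)) hbot) (H.whiskerRight Φ.rightOp)
  exact exists_dTw_of_homotopy _ _ k hk x hx

/-- The maps of sections induced by a map of diagrams over the base. -/
abbrev sectMap {S : TopCat.{u}} (M : Sys S) (V : TopologicalSpace.Opens S) {C C' : OpensFib.K Δ ⥤ Over S}
    (α : C ⟶ C') : altCx (sectZ M V C') ⟶ altCx (sectZ M V C) :=
  altMap (Functor.whiskerRight (NatTrans.rightOp α) (ΓF M V))

/-- Homotopic maps of diagrams over the base agree on cycles of sections up to boundaries. -/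
theorem exists_dTw_sectMap {S : TopCat.{u}} (M : Sys S) (V : TopologicalSpace.Opens S)
    {C C' : OpensFib.K Δ ⥤ Over S} (α β : C ⟶ C') (hbot : α.app (FibDesc.bot Δ) = β.app (FibDesc.bot Δ))
    (H : SimplicialObject.Homotopy (X := FibDesc.toAug Δ ⋙ C) (Y := FibDesc.toAug Δ ⋙ C')
      (Functor.whiskerLeft (FibDesc.toAug Δ) α) (Functor.whiskerLeft (FibDesc.toAug Δ) β))
    (x : Fam (altCx (sectZ M V C'))) (hx : dTw _ 0 x = 0) :
    ∃ y, dTw _ 0 y = gF (sectMap M V α) x - gF (sectMap M V β) x :=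
  exists_dTw_generic (ΓF M V) α β hbot H x hx

end Groth.Agent.H15Site.DescHyper
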