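import Groth.Agent.H15Site.DescHyper.Trunc

/-!
# Hypercoverings for universal cohomological descent are of cohomological descent
-/

set_option autoImplicit false
set_option linter.style.haveILetI false
set_option linter.unusedSectionVars false
set_option backward.isDefEq.respectTransparency false
set_option backward.isDefEq.respectTransparency.types false

universe u

open CategoryTheory CategoryTheory.Limits Opposite Simplicial TopologicalSpace
open Groth.Agent.H15Site.OpensFib Groth.Agent.H15Site.DescSimp Groth.Agent.H15Site.DescTri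

noncomputable section

namespace Groth.Agent.H15Site.DescHyper

attribute [local instance 10000] SiteInst.hasSheafifySite SiteInst.hasWeakSheafifySite
  SiteInst.hasExtSite SiteInst.enoughInjSite

variable {S : TopCat.{u}}

/-- The constant simplicial space. -/
abbrev L₀ (S : TopCat.{u}) : SimplicialObject (Over S) := (Functor.const Δᵒᵖ).obj (Over.mk (𝟙 S))

lemma isIso_augS_L₀ (k : OpensFib.K Δ) : IsIso ((augS (L₀ S)).obj k).hom :=
  match k with
  | ⟨.star⟩ => IsIso.id S
  | ⟨.of _⟩ => IsIso.id S

lemma isIso_base_id (n : ℕ) : IsIso (WidePullback.base (fun _ : Fin n => 𝟙 S)) := by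
  refine ⟨⟨WidePullback.lift (𝟙 S) (fun _ => 𝟙 S) (fun _ => Category.comp_id _), ?_, WidePullback.lift_base _ _ _ _⟩⟩
  refine WidePullback.hom_ext (fun _ : Fin n => 𝟙 S) _ _ (fun i => ?_) ?_
  · rw [Category.assoc, WidePullback.lift_π, Category.comp_id, Category.id_comp]
    exact ((Category.comp_id _).symm.trans (WidePullback.π_arrow (fun _ : Fin n => 𝟙 S) i)).symm
  · rw [Category.assoc, WidePullback.lift_base, Category.comp_id, Category.id_comp]

lemma isIso_nerveS_id (k : OpensFib.K Δ) : IsIso ((nerveS (𝟙 S)).obj k).hom :=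
  match k with
  | ⟨.star⟩ => by
    show IsIso (tB (FibDesc.cechAug (𝟙 S)) (op WithInitial.star) ≫ 𝟙 S)
    rw [tB_star]
    exact (Category.comp_id (𝟙 S)).symm ▸ IsIso.id S
  | ⟨.of n⟩ => by
    show IsIso (tB (FibDesc.cechAug (𝟙 S)) (op (WithInitial.of n)) ≫ 𝟙 S)
    rw [tB_cech]
    haveI := isIso_base_id (S := S) (n.len + 1)
    exact (Category.comp_id (WidePullback.base (fun _ : Fin (n.len + 1) => 𝟙 S))).symm ▸ isIso_base_id (n.len + 1)

/-- Diagrams with invertible structure maps are isomorphic. -/
def isoOfIsoHom {C C' : OpensFib.K Δ ⥤ Over S} (h : ∀ k, IsIso (C.obj k).hom) (h' : ∀ k, IsIso (C'.obj k).hom) :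
    C ≅ C' :=
  NatIso.ofComponents
    (fun k => haveI := h k; haveI := h' k; Over.isoMk (asIso (C.obj k).hom ≪≫ (asIso (C'.obj k).hom).symm) (by simp))
    (fun {k l} f => by
      haveI := h' l
      refine Over.OverMorphism.ext ((cancel_mono (C'.obj l).hom).1 ?_)
      exact (Over.w _).trans (Over.w _).symm)

theorem sectExact_L₀ : SectExact (L₀ S) := fun F V =>
  totExact_of_iso (sectIso (Sys.ofSheaf F) V (isoOfIsoHom isIso_augS_L₀ isIso_nerveS_id))
    (totExact_sectZ_of_descent V (FibDesc.cechAug (𝟙 S)) (𝟙 S) F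
      (CechSplit.isCohDescentMap_of_section (𝟙 S) (𝟙 S) (Category.id_comp _)))

section

variable [∀ (n : ℕ) (G : (SimplexCategory.Truncated n)ᵒᵖ ⥤ Over S),
    (SimplexCategory.Truncated.inclusion n).op.HasRightKanExtension G]
  (K : SimplicialObject (Over S))

/-- The coskeleta. -/
abbrev Kc (n : ℕ) : SimplicialObject (Over S) := (SimplicialObject.cosk n).obj K

/-- The units. -/
abbrev η (n : ℕ) : K ⟶ Kc K n := (SimplicialObject.coskAdj n).unit.app K

instance isCoskeletal_Kc (n : ℕ) : (Kc K n).IsCoskeletal n := by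
  haveI := hasPointwiseRightKanExtension_inclusion (C := Over S) n
  let adj := SimplicialObject.coskAdj (C := Over S) n
  have hε : IsIso adj.counit := SimplicialObject.Truncated.cosk_reflective n
  rw [SimplicialObject.isCoskeletal_iff_isIso]
  have h1 := adj.right_triangle_components ((SimplicialObject.truncation n).obj K)
  haveI : IsIso ((SimplicialObject.Truncated.cosk n).map (adj.counit.app ((SimplicialObject.truncation n).obj K))) :=
    inferInstance
  haveI : IsIso (𝟙 ((SimplicialObject.Truncated.cosk n).obj ((SimplicialObject.truncation n).obj K))) := IsIso.id _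
  exact IsIso.of_isIso_fac_right h1

lemma isIso_η (n p : ℕ) (hp : p ≤ n) : IsIso ((η K n).app (op ⦋p⦌)) := by
  haveI := hasPointwiseRightKanExtension_inclusion (C := Over S) n
  let adj := SimplicialObject.coskAdj (C := Over S) n
  have hε : IsIso adj.counit := SimplicialObject.Truncated.cosk_reflective n
  haveI : IsIso (adj.counit.app ((SimplicialObject.truncation n).obj K)) := inferInstance
  haveI : IsIso ((SimplicialObject.truncation n).map (η K n) ≫
      adj.counit.app ((SimplicialObject.truncation n).obj K)) := by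
    rw [adj.left_triangle_components]
    exact IsIso.id _
  haveI : IsIso ((SimplicialObject.truncation n).map (η K n)) :=
    IsIso.of_isIso_comp_right _ (adj.counit.app ((SimplicialObject.truncation n).obj K))
  exact inferInstanceAs (IsIso (((SimplicialObject.truncation n).map (η K n)).app (op ⟨⦋p⦌, hp⟩)))

variable (h0 : FibDesc.IsUnivCohDescentMap (K.obj (op ⦋0⦌)).hom)
  (hn : ∀ n : ℕ, FibDesc.IsUnivCohDescentMap ((η K n).app (op ⦋n + 1⦌)).left)

include h0 hn in
theorem sectExact_Kc (n : ℕ) : SectExact (Kc K n) := by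
  induction n with
  | zero =>
    let φ : Kc K 0 ⟶ L₀ S :=
      { app := fun m => Over.homMk ((Kc K 0).obj m).hom (Category.comp_id _)
        naturality := fun m m' g => Over.OverMorphism.ext ((Over.w ((Kc K 0).map g)).trans (Category.comp_id _).symm) }
    refine sectExact_of_rel φ (n := 0) (rel_of_isCoskeletal (fun p hp => absurd hp (Nat.not_lt_zero p))
      (fun a b _ => Over.OverMorphism.ext (((Category.comp_id _).symm.trans (Over.w a)).trans
        ((Category.comp_id _).symm.trans (Over.w b)).symm))) ?_ sectExact_L₀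
    haveI := isIso_η K 0 0 le_rfl
    haveI : IsIso ((η K 0).app (op ⦋0⦌)).left :=
      inferInstanceAs (IsIso ((Over.forget S).map ((η K 0).app (op ⦋0⦌))))
    show FibDesc.IsUnivCohDescentMap ((Kc K 0).obj (op ⦋0⦌)).hom
    rw [show ((Kc K 0).obj (op ⦋0⦌)).hom = inv ((η K 0).app (op ⦋0⦌)).left ≫ (K.obj (op ⦋0⦌)).hom from
      (IsIso.eq_inv_comp _).2 (Over.w ((η K 0).app (op ⦋0⦌)))]
    exact isUnivCohDescentMap_comp (isUnivCohDescentMap_of_isIso _) h0
  | succ n ih =>
    haveI : IsIso ((SimplicialObject.truncation n).map (η K (n + 1))) := by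
      rw [NatTrans.isIso_iff_isIso_app]
      rintro ⟨⟨Δ', hΔ⟩⟩
      induction Δ' using SimplexCategory.rec with | _ p
      exact isIso_η K (n + 1) p (Nat.le_succ_of_le hΔ)
    haveI : IsIso ((SimplicialObject.cosk n).map (η K (n + 1))) :=
      inferInstanceAs (IsIso ((SimplicialObject.Truncated.cosk n).map ((SimplicialObject.truncation n).map (η K (n + 1)))))
    let φ : Kc K (n + 1) ⟶ Kc K n :=
      (SimplicialObject.coskAdj n).unit.app (Kc K (n + 1)) ≫ inv ((SimplicialObject.cosk n).map (η K (n + 1)))
    have hφ : η K (n + 1) ≫ φ = η K n := by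
      show η K (n + 1) ≫ _ ≫ _ = _
      rw [← Category.assoc, IsIso.comp_inv_eq]
      exact (SimplicialObject.coskAdj n).unit.naturality (η K (n + 1))
    have happ : ∀ p, (η K (n + 1)).app (op ⦋p⦌) ≫ φ.app (op ⦋p⦌) = (η K n).app (op ⦋p⦌) := fun p =>
      congrArg (fun t => t.app (op ⦋p⦌)) hφ
    have hiso : ∀ p, p < n + 1 → IsIso (φ.app (op ⦋p⦌)) := fun p hp => by
      haveI := isIso_η K (n + 1) p hp.le
      haveI : IsIso ((η K (n + 1)).app (op ⦋p⦌) ≫ φ.app (op ⦋p⦌)) := by
        rw [happ]; exact isIso_η K n p (Nat.le_of_lt_succ hp)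
      exact IsIso.of_isIso_comp_left ((η K (n + 1)).app (op ⦋p⦌)) _
    refine sectExact_of_rel φ (rel_of_isCoskeletal hiso
      (fun a b h => ext_of_isCoskeletal (Nat.le_succ n) a b h)) ?_ ih
    haveI := isIso_η K (n + 1) (n + 1) le_rfl
    haveI : IsIso ((η K (n + 1)).app (op ⦋n + 1⦌)).left :=
      inferInstanceAs (IsIso ((Over.forget S).map ((η K (n + 1)).app (op ⦋n + 1⦌))))
    rw [show (φ.app (op ⦋n + 1⦌)).left = inv ((η K (n + 1)).app (op ⦋n + 1⦌)).left ≫ ((η K n).app (op ⦋n + 1⦌)).left from
      (IsIso.eq_inv_comp _).2 (congrArg CommaMorphism.left (happ (n + 1)))]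
    exact isUnivCohDescentMap_comp (isUnivCohDescentMap_of_isIso _) (hn n)

include h0 hn in
theorem sectExact_hypercovering : SectExact K :=
  sectExact_of_low fun n => ⟨Kc K n, η K n, sectExact_Kc K h0 hn n, fun p hp => isIso_η K n p hp⟩

end

/-- The augmented space of a simplicial space over the base. -/
abbrev augSpace (K : SimplicialObject (Over S)) : OpensFib.K Δ ⥤ TopCat.{u} :=
  AugmentedSimplexCategory.equivAugmentedSimplicialObject.inverse.obj
    (SimplicialObject.augment (K ⋙ Over.forget S) S (K.obj (op (SimplexCategory.mk 0))).hom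
      (fun i g₁ g₂ => (Over.w (K.map g₁.op)).trans (Over.w (K.map g₂.op)).symm))

lemma tB_augSpace (K : SimplicialObject (Over S)) (n : Δ) :
    tB (augSpace K) (op (WithInitial.of n)) = (K.obj (op n)).hom :=
  (congrArg (augSpace K).map (bot_ext _ (WithInitial.starInitial.to (WithInitial.incl.obj n)).op)).trans
    (Over.w (K.map (SimplexCategory.const ⦋0⦌ n 0).op))

/-- The augmented space as a diagram over the base. -/
def augSpaceIso (K : SimplicialObject (Over S)) : overY (augSpace K) (𝟙 S) ≅ augS K :=
  NatIso.ofComponents (fun k => match k with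
    | ⟨.star⟩ => Over.isoMk (Iso.refl _) (by
        show 𝟙 S ≫ 𝟙 S = tB (augSpace K) (op WithInitial.star) ≫ 𝟙 S
        rw [show tB (augSpace K) (op WithInitial.star) = 𝟙 S from
          (congrArg (augSpace K).map (bot_ext _ (𝟙 _))).trans ((augSpace K).map_id _)])
    | ⟨.of n⟩ => Over.isoMk (Iso.refl _) (by
        show 𝟙 _ ≫ (K.obj (op n)).hom = tB (augSpace K) (op (WithInitial.of n)) ≫ 𝟙 S
        rw [tB_augSpace]
        exact (Category.id_comp _).trans (Category.comp_id _).symm))
    (fun {k l} f => Over.OverMorphism.ext (by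
      match k, l, f with
      | ⟨.star⟩, ⟨.star⟩, f =>
        refine (Category.comp_id _).trans (Eq.trans ?_ (Category.id_comp _).symm)
        rw [show f = 𝟙 _ from bot_ext _ _]
        refine ((augSpace K).map_id (op WithInitial.star)).trans ?_
        exact (congrArg CommaMorphism.left ((augS K).map_id (op WithInitial.star))).symm
      | ⟨.of n⟩, ⟨.star⟩, f =>
        refine (Category.comp_id _).trans (Eq.trans ?_ (Category.id_comp _).symm)
        refine (congrArg (augSpace K).map (bot_ext f (WithInitial.starInitial.to (WithInitial.incl.obj n)).op)).trans ?_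
        exact Over.w (K.map (SimplexCategory.const ⦋0⦌ n 0).op)
      | ⟨.of n⟩, ⟨.of n'⟩, f => exact (Category.comp_id _).trans (Category.id_comp _).symm))

/-- **Hypercoverings are of cohomological descent.** -/
theorem isCohDescentTop_augSpace
    [∀ (n : ℕ) (G : (SimplexCategory.Truncated n)ᵒᵖ ⥤ Over S),
      (SimplexCategory.Truncated.inclusion n).op.HasRightKanExtension G]
    (K : SimplicialObject (Over S))
    (h0 : FibDesc.IsUnivCohDescentMap (K.obj (op ⦋0⦌)).hom)
    (hn : ∀ n : ℕ, FibDesc.IsUnivCohDescentMap ((η K n).app (op ⦋n + 1⦌)).left) :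
    FibDesc.IsCohDescentTop (augSpace K) :=
  isCohDescentTop_of_totExact (augSpace K) fun F W =>
    totExact_of_iso (sectIso (Sys.ofSheaf (S := S) F) W (augSpaceIso K)) (sectExact_hypercovering K h0 hn F W)

end Groth.Agent.H15Site.DescHyper
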