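import Groth.Agent.H15Site.DescHyper.Main
import Groth.Agent.H15Site.DescSimp.Proper

/-!
# Proper surjective maps are universally of cohomological descent
-/

set_option autoImplicit false
set_option linter.style.haveILetI false
set_option linter.unusedSectionVars false
set_option backward.isDefEq.respectTransparency false
set_option backward.isDefEq.respectTransparency.types false

universe u

open CategoryTheory CategoryTheory.Limits Opposite TopologicalSpace Topology

noncomputable section

namespace Groth.Agent.H15Site.DescHyper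

attribute [local instance 10000] SiteInst.hasSheafifySite SiteInst.hasWeakSheafifySite
  SiteInst.hasExtSite SiteInst.enoughInjSite

variable {X S T : TopCat.{u}} (f : X ⟶ S) (g : T ⟶ S)

theorem isProperMap_snd (hf : IsProperMap f) :
    IsProperMap (pullback.snd f g) := by
  let e := TopCat.homeoOfIso (TopCat.pullbackIsoProdSubtype f g)
  have he : (pullback.snd f g : _ → T) = (fun x : { p : X × T // f p.1 = g p.2 } => x.1.2) ∘ e := by
    funext z
    exact (ConcreteCategory.congr_hom (TopCat.pullbackIsoProdSubtype_hom_snd f g) z).symm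
  rw [he]
  refine IsProperMap.comp ?_ e.isProperMap
  refine isProperMap_iff_isClosedMap_and_compact_fibers.2
    ⟨continuous_snd.comp continuous_subtype_val, fun C hC => ?_, fun t => ?_⟩
  · obtain ⟨C', hC', rfl⟩ := IsInducing.subtypeVal.isClosed_iff.1 hC
    have hcl : IsClosedMap (Prod.map f (id : T → T)) := (hf.prodMap isProperMap_id).isClosedMap
    refine (congrArg IsClosed ?_).mpr ((hcl _ hC').preimage (g.hom.continuous.prodMk continuous_id))
    ext t
    constructor
    · rintro ⟨⟨⟨x, t'⟩, hx⟩, hmem, rfl⟩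
      exact ⟨⟨x, t'⟩, hmem, Prod.ext hx rfl⟩
    · rintro ⟨⟨x, t'⟩, hmem, e⟩
      obtain ⟨e₁, e₂⟩ := Prod.ext_iff.1 e
      obtain rfl : t' = t := e₂
      exact ⟨⟨⟨x, t'⟩, e₁⟩, hmem, rfl⟩
  · rw [IsInducing.subtypeVal.isCompact_iff]
    refine (congrArg IsCompact ?_).mpr ((hf.isCompact_preimage (K := {g t}) isCompact_singleton).prod
      (isCompact_singleton (x := t)))
    ext ⟨x, t'⟩
    constructor
    · rintro ⟨⟨⟨x', s⟩, hx⟩, hs, e⟩
      obtain ⟨rfl, rfl⟩ := Prod.ext_iff.1 e
      exact ⟨hx.trans (congrArg g (hs : s = t)), hs⟩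
    · rintro ⟨hx, ht⟩
      obtain rfl : t' = t := ht
      exact ⟨⟨⟨x, t'⟩, hx⟩, rfl, rfl⟩

/-- Base changes of proper separated surjections are of descent. -/
theorem isUnivCohDescentMap_of_proper (hf : IsProperMap f)
    (hs : ∀ x x' : X, f x = f x' → x ≠ x' → ∃ U V : Set X, IsOpen U ∧ IsOpen V ∧ x ∈ U ∧ x' ∈ V ∧ Disjoint U V)
    (hj : Function.Surjective f) : FibDesc.IsUnivCohDescentMap f := by
  intro T g
  have hw : ∀ z, f (pullback.fst f g z) = g (pullback.snd f g z) := fun z =>
    ConcreteCategory.congr_hom (pullback.condition (f := f) (g := g)) z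
  refine DescSimp.Proper.isCohDescentMap _ (isProperMap_snd f g hf) (fun z z' hz hne => ?_) (fun t => ?_)
  · have hx : pullback.fst f g z ≠ pullback.fst f g z' := by
      intro h
      refine hne ?_
      apply (TopCat.homeoOfIso (TopCat.pullbackIsoProdSubtype f g)).injective
      refine Subtype.ext (Prod.ext ?_ ?_)
      · exact (ConcreteCategory.congr_hom (TopCat.pullbackIsoProdSubtype_hom_fst f g) z).trans
          (h.trans (ConcreteCategory.congr_hom (TopCat.pullbackIsoProdSubtype_hom_fst f g) z').symm)
      · exact (ConcreteCategory.congr_hom (TopCat.pullbackIsoProdSubtype_hom_snd f g) z).trans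
          (hz.trans (ConcreteCategory.congr_hom (TopCat.pullbackIsoProdSubtype_hom_snd f g) z').symm)
    obtain ⟨U, V, hU, hV, h1, h2, hd⟩ := hs _ _ ((hw z).trans ((congrArg g hz).trans (hw z').symm)) hx
    exact ⟨_, _, hU.preimage (pullback.fst f g).hom.continuous, hV.preimage (pullback.fst f g).hom.continuous,
      h1, h2, hd.preimage _⟩
  · obtain ⟨x, hx⟩ := hj (g t)
    exact ⟨(TopCat.pullbackIsoProdSubtype f g).inv ⟨⟨x, t⟩, hx⟩,
      TopCat.pullbackIsoProdSubtype_inv_snd_apply f g _⟩

end Groth.Agent.H15Site.DescHyper
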