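import Groth.Agent.H15Site.CoskLib
import Mathlib.AlgebraicTopology.SimplicialObject.Basic
import Mathlib.AlgebraicTopology.SimplexCategory.Basic

/-!
# Relatively coskeletal maps of simplicial objects
-/

set_option autoImplicit false
set_option linter.style.haveILetI false
set_option linter.unusedSectionVars false
set_option backward.isDefEq.respectTransparency false

universe v u

open CategoryTheory CategoryTheory.Limits Opposite Simplicial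

noncomputable section

namespace Groth.Agent.H15Site.DescHyper

variable {E : Type u} [Category.{v} E] {K L : SimplicialObject E} (φ : K ⟶ L) (n : ℕ)

/-- `φ` is an isomorphism below degree `n` and the fillers over `L` are given by their non-degenerate
`n`-simplices. -/
structure Rel : Prop where
  iso : ∀ p, p < n → IsIso (φ.app (op ⦋p⦌))
  ext : ∀ {p : ℕ} {W : E} (a b : W ⟶ K _⦋p⦌), a ≫ φ.app (op ⦋p⦌) = b ≫ φ.app (op ⦋p⦌) →
    (∀ σ : ⦋n⦌ ⟶ ⦋p⦌, Mono σ → a ≫ K.map σ.op = b ≫ K.map σ.op) → a = b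
  lift : ∀ {p : ℕ} {W : E} (l : W ⟶ L _⦋p⦌) (k : ∀ σ : ⦋n⦌ ⟶ ⦋p⦌, Mono σ → (W ⟶ K _⦋n⦌)),
    (∀ σ h, k σ h ≫ φ.app (op ⦋n⦌) = l ≫ L.map σ.op) →
      ∃ m : W ⟶ K _⦋p⦌, m ≫ φ.app (op ⦋p⦌) = l ∧ ∀ σ h, m ≫ K.map σ.op = k σ h

lemma exists_image {a b : ℕ} (f : ⦋a⦌ ⟶ ⦋b⦌) :
    ∃ (j : ℕ) (e : ⦋a⦌ ⟶ ⦋j⦌) (m : ⦋j⦌ ⟶ ⦋b⦌) (r : ⦋j⦌ ⟶ ⦋a⦌),
      Mono m ∧ e ≫ m = f ∧ r ≫ e = 𝟙 _ := by
  haveI : IsSplitEpi (factorThruImage f) := isSplitEpi_of_epi _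
  exact ⟨(image f).len, factorThruImage f, image.ι f, section_ (factorThruImage f), inferInstance,
    image.fac f, IsSplitEpi.id _⟩

lemma exists_lt_of_not_mono {n b : ℕ} (f : ⦋n⦌ ⟶ ⦋b⦌) (hf : ¬ Mono f) :
    ∃ j, j < n ∧ ∃ (e : ⦋n⦌ ⟶ ⦋j⦌) (m : ⦋j⦌ ⟶ ⦋b⦌), e ≫ m = f := by
  obtain ⟨j, e, m, r, hm, hf', hr⟩ := exists_image f
  haveI : IsSplitMono r := IsSplitMono.mk' ⟨e, hr⟩
  rcases lt_or_eq_of_le (SimplexCategory.len_le_of_mono r) with h | h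
  · exact ⟨j, h, e, m, hf'⟩
  · change j = n at h
    subst h
    exfalso
    refine hf ?_
    rw [SimplexCategory.eq_id_of_mono r, Category.id_comp] at hr
    rw [← hf', hr, Category.id_comp]
    exact hm

variable {φ n}

section Val

variable (hiso : ∀ p, p < n → IsIso (φ.app (op ⦋p⦌))) {p : ℕ} {W : E} (l : W ⟶ L _⦋p⦌)

/-- The determined simplices. -/
def X {i j : ℕ} (hj : j < n) (s : ⦋i⦌ ⟶ ⦋j⦌) (f : ⦋j⦌ ⟶ ⦋p⦌) : W ⟶ K _⦋i⦌ :=
  haveI := hiso j hj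
  l ≫ L.map f.op ≫ inv (φ.app (op ⦋j⦌)) ≫ K.map s.op

lemma X_comp {i i' j : ℕ} (hj : j < n) (g : ⦋i'⦌ ⟶ ⦋i⦌) (s : ⦋i⦌ ⟶ ⦋j⦌) (f : ⦋j⦌ ⟶ ⦋p⦌) :
    X hiso l hj s f ≫ K.map g.op = X hiso l hj (g ≫ s) f := by
  simp [X]

lemma X_φ {i j : ℕ} (hj : j < n) (s : ⦋i⦌ ⟶ ⦋j⦌) (f : ⦋j⦌ ⟶ ⦋p⦌) :
    X hiso l hj s f ≫ φ.app (op ⦋i⦌) = l ≫ L.map (s ≫ f).op := by
  haveI := hiso j hj
  simp [X]

lemma X_push {i j j' : ℕ} (hj : j < n) (hj' : j' < n) (s : ⦋i⦌ ⟶ ⦋j⦌) (e : ⦋j⦌ ⟶ ⦋j'⦌)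
    (f : ⦋j'⦌ ⟶ ⦋p⦌) : X hiso l hj s (e ≫ f) = X hiso l hj' (s ≫ e) f := by
  haveI := hiso j hj
  haveI := hiso j' hj'
  have h : L.map e.op ≫ inv (φ.app (op ⦋j⦌)) = inv (φ.app (op ⦋j'⦌)) ≫ K.map e.op := by
    rw [IsIso.comp_inv_eq, Category.assoc, φ.naturality, IsIso.inv_hom_id_assoc]
  simp [X, reassoc_of% h]

lemma X_eq {i j₁ j₂ : ℕ} (h₁ : j₁ < n) (h₂ : j₂ < n) (s₁ : ⦋i⦌ ⟶ ⦋j₁⦌) (f₁ : ⦋j₁⦌ ⟶ ⦋p⦌)
    (s₂ : ⦋i⦌ ⟶ ⦋j₂⦌) (f₂ : ⦋j₂⦌ ⟶ ⦋p⦌) (h : s₁ ≫ f₁ = s₂ ≫ f₂) :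
    X hiso l h₁ s₁ f₁ = X hiso l h₂ s₂ f₂ := by
  obtain ⟨j, e, m, r, hm, hf, hr⟩ := exists_image (s₁ ≫ f₁)
  have key : ∀ {j' : ℕ} (hj' : j' < n) (s : ⦋i⦌ ⟶ ⦋j'⦌) (f : ⦋j'⦌ ⟶ ⦋p⦌), s ≫ f = e ≫ m →
      ∃ (hj : j < n), X hiso l hj' s f = X hiso l hj e m := by
    intro j' hj' s f hsf
    obtain ⟨k, e', m', r', hm', hf', hr'⟩ := exists_image f
    haveI : IsSplitMono r' := IsSplitMono.mk' ⟨e', hr'⟩
    have hk : k < n := lt_of_le_of_lt (SimplexCategory.len_le_of_mono r') hj'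
    have hm'' : m = (r ≫ s ≫ e') ≫ m' := by
      simp only [Category.assoc, hf', hsf]
      rw [← Category.assoc, hr, Category.id_comp]
    haveI : Mono ((r ≫ s ≫ e') ≫ m') := hm'' ▸ hm
    haveI : Mono (r ≫ s ≫ e') := mono_of_mono _ m'
    have hj : j < n := lt_of_le_of_lt (SimplexCategory.len_le_of_mono (r ≫ s ≫ e')) hk
    refine ⟨hj, ?_⟩
    have e1 : s ≫ e' = e ≫ r ≫ s ≫ e' := by
      rw [← cancel_mono m', Category.assoc, hf', hsf, hm'']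
      simp
    rw [← hf', X_push hiso l hj' hk, hm'', X_push hiso l hj hk, ← e1]
  obtain ⟨_, e₁⟩ := key h₁ s₁ f₁ hf.symm
  obtain ⟨_, e₂⟩ := key h₂ s₂ f₂ (h.symm.trans hf.symm)
  rw [e₁, e₂]

variable (k : ∀ σ : ⦋n⦌ ⟶ ⦋p⦌, Mono σ → (W ⟶ K _⦋n⦌))
  (hk : ∀ σ h, k σ h ≫ φ.app (op ⦋n⦌) = l ≫ L.map σ.op)

/-- The prescribed value at a simplex. -/
structure Val {i : ℕ} (f : ⦋i⦌ ⟶ ⦋p⦌) (c : W ⟶ K _⦋i⦌) : Prop where
  hφ : c ≫ φ.app (op ⦋i⦌) = l ≫ L.map f.op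
  hmono : ∀ (h : i = n) (σ : ⦋n⦌ ⟶ ⦋p⦌) (hσ : Mono σ), HEq σ f → HEq c (k σ hσ)
  hdeg : ∀ (j : ℕ) (hj : j < n) (s : ⦋i⦌ ⟶ ⦋j⦌) (f₁ : ⦋j⦌ ⟶ ⦋p⦌), s ≫ f₁ = f → c = X hiso l hj s f₁

include hk in
lemma exists_val {i : ℕ} (hi : i ≤ n) (f : ⦋i⦌ ⟶ ⦋p⦌) : ∃ c, Val hiso l k f c := by
  rcases lt_or_eq_of_le hi with hi | rfl
  · exact ⟨X hiso l hi (𝟙 _) f, by rw [X_φ, Category.id_comp], fun h => absurd h hi.ne,
      fun j hj s f₁ hf => X_eq hiso l _ _ _ _ _ _ ((Category.id_comp _).trans hf.symm)⟩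
  · by_cases hf : Mono f
    · refine ⟨k f hf, hk f hf, fun _ σ hσ hh => by cases hh; rfl, fun j hj s f₁ hs => ?_⟩
      haveI : Mono (s ≫ f₁) := hs ▸ hf
      haveI : Mono s := mono_of_mono s f₁
      exact absurd (SimplexCategory.len_le_of_mono s) (not_le.2 hj)
    · obtain ⟨j, hj, e, m, rfl⟩ := exists_lt_of_not_mono f hf
      exact ⟨X hiso l hj e m, X_φ hiso l hj e m, fun _ σ hσ hh => absurd (eq_of_heq hh ▸ hσ) hf,
        fun j' hj' s f₁ hs => X_eq hiso l _ _ _ _ _ _ hs.symm⟩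

lemma val_unique {i : ℕ} (hi : i ≤ n) {f : ⦋i⦌ ⟶ ⦋p⦌} {c c' : W ⟶ K _⦋i⦌}
    (h : Val hiso l k f c) (h' : Val hiso l k f c') : c = c' := by
  rcases lt_or_eq_of_le hi with hi | rfl
  · rw [h.hdeg i hi (𝟙 _) f (Category.id_comp _), h'.hdeg i hi (𝟙 _) f (Category.id_comp _)]
  · by_cases hf : Mono f
    · exact eq_of_heq ((h.hmono rfl f hf HEq.rfl).trans (h'.hmono rfl f hf HEq.rfl).symm)
    · obtain ⟨j, hj, e, m, rfl⟩ := exists_lt_of_not_mono f hf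
      rw [h.hdeg j hj e m rfl, h'.hdeg j hj e m rfl]

lemma val_comp {i i' : ℕ} (hi : i ≤ n) (hi' : i' ≤ n) (g : ⦋i'⦌ ⟶ ⦋i⦌) {f : ⦋i⦌ ⟶ ⦋p⦌}
    {c : W ⟶ K _⦋i⦌} (h : Val hiso l k f c) : Val hiso l k (g ≫ f) (c ≫ K.map g.op) := by
  have deg : ∀ (j : ℕ) (hj : j < n) (a : ⦋i'⦌ ⟶ ⦋j⦌) (b : ⦋j⦌ ⟶ ⦋i⦌), a ≫ b = g →
      c ≫ K.map g.op = X hiso l hj a (b ≫ f) := by
    intro j hj a b hab
    haveI := hiso j hj
    have : c ≫ K.map b.op = X hiso l hj (𝟙 _) (b ≫ f) := by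
      rw [← cancel_mono (φ.app (op ⦋j⦌)), X_φ, Category.id_comp, Category.assoc, φ.naturality,
        ← Category.assoc, h.hφ, Category.assoc, ← Functor.map_comp, ← op_comp]
    rw [← hab, op_comp, Functor.map_comp, ← Category.assoc, this, X_comp, Category.comp_id]
  refine ⟨by rw [Category.assoc, φ.naturality, ← Category.assoc, h.hφ, Category.assoc, ← Functor.map_comp,
    ← op_comp], ?_, ?_⟩
  · rintro rfl σ hσ hh
    cases hh
    haveI := hσ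
    haveI : Mono g := mono_of_mono g f
    obtain rfl : i = i' := le_antisymm hi (SimplexCategory.len_le_of_mono g)
    obtain rfl : g = 𝟙 _ := SimplexCategory.eq_id_of_mono g
    have hσ' : Mono f := by simpa using hσ
    have := h.hmono rfl f hσ' HEq.rfl
    rw [op_id, K.map_id, Category.comp_id]
    refine this.trans (heq_of_eq ?_)
    congr 1
    exact (Category.id_comp f).symm
  · intro j hj s f₁ hs
    rcases lt_or_eq_of_le hi' with hi' | rfl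
    · exact (deg i' hi' (𝟙 _) g (Category.id_comp _)).trans
        (X_eq hiso l _ _ _ _ _ _ ((Category.id_comp _).trans hs.symm))
    · by_cases hg : Mono g
      · obtain rfl : i = i' := le_antisymm hi (SimplexCategory.len_le_of_mono g)
        obtain rfl : g = 𝟙 _ := SimplexCategory.eq_id_of_mono g
        rw [op_id, K.map_id, Category.comp_id]
        exact h.hdeg j hj s f₁ (hs.trans (Category.id_comp f))
      · obtain ⟨j', hj', a, b, hab⟩ := exists_lt_of_not_mono g hg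
        exact (deg j' hj' a b hab).trans (X_eq hiso l _ _ _ _ _ _ (by rw [hs, ← Category.assoc, hab]))

end Val

variable [HasFiniteLimits E]

/-- A map out of a coskeletal object which is an isomorphism below the degree is relatively coskeletal. -/
theorem rel_of_isCoskeletal [K.IsCoskeletal n] (hiso : ∀ p, p < n → IsIso (φ.app (op ⦋p⦌)))
    (hL : ∀ {p : ℕ} {W : E} (a b : W ⟶ L _⦋p⦌),
      (∀ (i : ℕ) (_ : i ≤ n) (f : ⦋i⦌ ⟶ ⦋p⦌), a ≫ L.map f.op = b ≫ L.map f.op) → a = b) : Rel φ n := by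
  have hP := fun m => isPointwiseOfIsCoskeletal K n (op ⦋m⦌)
  have hext : ∀ {p : ℕ} {W : E} (a b : W ⟶ K _⦋p⦌),
      (∀ (i : ℕ) (_ : i ≤ n) (f : ⦋i⦌ ⟶ ⦋p⦌), a ≫ K.map f.op = b ≫ K.map f.op) → a = b := by
    intro p W a b h
    refine (hP p).hom_ext fun j => ?_
    obtain ⟨i, hi, f, rfl⟩ := exists_eq_arrowMk j
    exact (congrArg (a ≫ ·) (Category.comp_id _)).trans
      ((h i hi f).trans (congrArg (b ≫ ·) (Category.comp_id _)).symm)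
  refine ⟨hiso, fun {p W} a b hφ hσ => hext a b fun i hi f => ?_, fun {p W} l k hk => ?_⟩
  · have low : ∀ (j : ℕ) (_ : j < n) (g : ⦋j⦌ ⟶ ⦋p⦌), a ≫ K.map g.op = b ≫ K.map g.op := fun j hj g => by
      haveI := hiso j hj
      rw [← cancel_mono (φ.app (op ⦋j⦌)), Category.assoc, Category.assoc, φ.naturality,
        ← Category.assoc, hφ, Category.assoc]
    rcases lt_or_eq_of_le hi with hi | rfl
    · exact low i hi f
    · by_cases hf : Mono f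
      · exact hσ f hf
      · obtain ⟨j, hj, e, m, rfl⟩ := exists_lt_of_not_mono f hf
        rw [op_comp, Functor.map_comp, ← Category.assoc, low j hj m, Category.assoc]
  · choose c hc using fun i (hi : i ≤ n) f => exists_val hiso l k hk hi f
    let cone : Cone (StructuredArrow.proj (op ⦋p⦌) (SimplexCategory.Truncated.inclusion n).op ⋙
        (SimplexCategory.Truncated.inclusion n).op ⋙ K) :=
      { pt := W
        π :=
          { app := fun j => c j.right.unop.1.len j.right.unop.2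
              (show ⦋j.right.unop.1.len⦌ ⟶ ⦋p⦌ from j.hom.unop)
            naturality := fun j j' ψ => by
              obtain ⟨i, hi, f, rfl⟩ := exists_eq_arrowMk j
              obtain ⟨i', hi', f', rfl⟩ := exists_eq_arrowMk j'
              let g : ⦋i'⦌ ⟶ ⦋i⦌ := ψ.right.unop.hom
              have hg : g ≫ f = f' := congrArg (fun q => q.unop) (StructuredArrow.w ψ)
              refine (Category.id_comp _).trans ?_
              change c i' hi' f' = c i hi f ≫ K.map g.op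
              exact val_unique hiso l k hi' (hc i' hi' f') (hg ▸ val_comp hiso l k hi hi' g (hc i hi f)) } }
    let m := (hP p).lift cone
    have hm : ∀ (i : ℕ) (hi : i ≤ n) (f : ⦋i⦌ ⟶ ⦋p⦌), m ≫ K.map f.op = c i hi f := fun i hi f =>
      (congrArg (m ≫ ·) (Category.comp_id _)).symm.trans ((hP p).fac cone (arrowMk f hi))
    refine ⟨m, ?_, fun σ h => by rw [hm n le_rfl σ]; exact eq_of_heq ((hc n le_rfl σ).hmono rfl σ h HEq.rfl)⟩
    refine hL _ _ fun i hi f => ?_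
    rw [Category.assoc, ← φ.naturality, ← Category.assoc, hm i hi f, (hc i hi f).hφ]

/-- Maps into coskeletal objects are determined in low degrees. -/
theorem ext_of_isCoskeletal {m : ℕ} [L.IsCoskeletal m] (hmn : m ≤ n) {p : ℕ} {W : E} (a b : W ⟶ L _⦋p⦌)
    (h : ∀ (i : ℕ) (_ : i ≤ n) (f : ⦋i⦌ ⟶ ⦋p⦌), a ≫ L.map f.op = b ≫ L.map f.op) : a = b := by
  refine (isPointwiseOfIsCoskeletal L m (op ⦋p⦌)).hom_ext fun j => ?_
  obtain ⟨i, hi, f, rfl⟩ := exists_eq_arrowMk j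
  exact (congrArg (a ≫ ·) (Category.comp_id _)).trans
    ((h i (hi.trans hmn) f).trans (congrArg (b ≫ ·) (Category.comp_id _)).symm)

end Groth.Agent.H15Site.DescHyper
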