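import Groth.Agent.H15Site.DescHyper.Corner
import Groth.Agent.H15Site.DescTri.Bisimp

/-!
# Rows of a double cosimplicial complex with homotopically constant rows
-/

set_option autoImplicit false
set_option linter.style.haveILetI false
set_option linter.unusedSectionVars false
set_option backward.isDefEq.respectTransparency false
set_option backward.isDefEq.respectTransparency.types false

universe u

open CategoryTheory CategoryTheory.Limits
open Groth.Agent.H15Site.DoubleSS (Dbl sgn)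
open Groth.Agent.H15Site.OpensFib Groth.Agent.H15Site.DescSimp Groth.Agent.H15Site.DescTri

noncomputable section

namespace Groth.Agent.H15Site.DescHyper

variable (Z : WithInitial Δ ⥤ WithInitial Δ ⥤ CochainComplex AddCommGrpCat.{u} ℤ)

/-- A row. -/
abbrev R (l : WithInitial Δ) : Dbl.{u} := altCx (Z.flip.obj l)

/-- The action on a row. -/
abbrev act {l l' : WithInitial Δ} (g : l ⟶ l') : Fam (R Z l) →+ Fam (R Z l') := gF (altMap (Z.flip.map g))

lemma act_comp {l l' l'' : WithInitial Δ} (g : l ⟶ l') (g' : l' ⟶ l'') (x : Fam (R Z l)) :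
    act Z (g ≫ g') x = act Z g' (act Z g x) := by
  refine funext fun p => funext fun q => ?_
  show (((altMap (Z.flip.map (g ≫ g'))).f p).f q).hom (x p q) = _
  rw [show altMap (Z.flip.map (g ≫ g')) = altMap (Z.flip.map g) ≫ altMap (Z.flip.map g') from
    (congrArg altMap (Z.flip.map_comp g g')).trans (altFunctor.map_comp _ _)]
  rfl

lemma act_id (l : WithInitial Δ) (x : Fam (R Z l)) : act Z (𝟙 l) x = x := by
  refine funext fun p => funext fun q => ?_
  show (((altMap (Z.flip.map (𝟙 l))).f p).f q).hom (x p q) = _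
  rw [show altMap (Z.flip.map (𝟙 l)) = 𝟙 (R Z l) from
    (congrArg altMap (Z.flip.map_id l)).trans (altFunctor.map_id _)]
  rfl

/-- Boundaries. -/
abbrev Bd (l : WithInitial Δ) : AddSubgroup (Fam (R Z l)) := (dTw (R Z l) 0).range

lemma act_cycle {l l' : WithInitial Δ} (g : l ⟶ l') {x : Fam (R Z l)} (hx : dTw _ 0 x = 0) :
    dTw _ 0 (act Z g x) = 0 := by rw [← gF_dTw, hx, map_zero]

lemma act_bd {l l' : WithInitial Δ} (g : l ⟶ l') {x : Fam (R Z l)} (hx : x ∈ Bd Z l) :
    act Z g x ∈ Bd Z l' := by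
  obtain ⟨y, rfl⟩ := hx
  exact ⟨act Z g y, (gF_dTw _ 0 y).symm⟩

/-- The constant maps. -/
abbrev cst (i j : ℕ) : ix (i + 1) ⟶ ix (j + 1) :=
  WithInitial.incl.map (SimplexCategory.const (SimplexCategory.mk i) (SimplexCategory.mk j) 0)

lemma cst_comp (i j k : ℕ) : cst i j ≫ cst j k = cst i k := by
  show WithInitial.incl.map _ ≫ WithInitial.incl.map _ = _
  rw [← Functor.map_comp]
  rfl

lemma comp_cst {i j : ℕ} (g : ix (i + 1) ⟶ ix (j + 1)) (k : ℕ) : g ≫ cst j k = cst i k := by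
  show WithInitial.incl.map (WithInitial.down g) ≫ WithInitial.incl.map _ = _
  rw [← Functor.map_comp]
  rfl

variable (hc : ∀ (j : ℕ) (x : Fam (R Z (ix (j + 1)))), dTw _ 0 x = 0 → x - act Z (cst j j) x ∈ Bd Z (ix (j + 1)))

include hc in
lemma act_sub_cst {i j : ℕ} (g : ix (i + 1) ⟶ ix (j + 1)) (x : Fam (R Z (ix (i + 1)))) (hx : dTw _ 0 x = 0) :
    act Z g x - act Z (cst i j) x ∈ Bd Z (ix (j + 1)) := by
  have h := hc j (act Z g x) (act_cycle Z g hx)
  rwa [← act_comp, comp_cst] at h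

/-- The coface sum. -/
def dco (j : ℕ) (x : Fam (R Z (ix (j + 1)))) : Fam (R Z (ix (j + 2))) :=
  ∑ i : Fin (j + 2), ((-1 : ℤ) ^ (i : ℕ)) • act Z (face (j + 1) i) x

include hc in
lemma dco_sub (j : ℕ) (x : Fam (R Z (ix (j + 1)))) (hx : dTw _ 0 x = 0) :
    dco Z j x - (if Even j then (0 : Fam (R Z (ix (j + 2)))) else act Z (cst j (j + 1)) x) ∈ Bd Z (ix (j + 2)) := by
  have e : (if Even j then (0 : Fam (R Z (ix (j + 2)))) else act Z (cst j (j + 1)) x) =
      ∑ i : Fin (j + 2), ((-1 : ℤ) ^ (i : ℕ)) • act Z (cst j (j + 1)) x := by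
    rw [← Finset.sum_smul, Fin.sum_univ_eq_sum_range (fun i => (-1 : ℤ) ^ i), neg_one_geom_sum]
    by_cases hj : Even j
    · rw [if_pos hj, if_pos (Nat.even_add.2 (iff_of_true hj even_two)), zero_smul]
    · rw [if_neg hj, if_neg (fun h => hj ((Nat.even_add.1 h).2 even_two)), one_smul]
  rw [e, dco, ← Finset.sum_sub_distrib]
  refine AddSubgroup.sum_mem _ fun i _ => ?_
  rw [← smul_sub]
  exact AddSubgroup.zsmul_mem _ (act_sub_cst Z hc _ x hx) _

include hc in
lemma exists_middle (j : ℕ) (x : Fam (R Z (ix (j + 2)))) (hx : dTw _ 0 x = 0)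
    (hd : dco Z (j + 1) x ∈ Bd Z (ix (j + 3))) :
    ∃ w : Fam (R Z (ix (j + 1))), dTw _ 0 w = 0 ∧ x - dco Z j w ∈ Bd Z (ix (j + 2)) := by
  have hx' := hc (j + 1) x hx
  by_cases hj : Even j
  · refine ⟨0, map_zero _, ?_⟩
    have h0 : dco Z j 0 = 0 := Finset.sum_eq_zero fun i _ => by rw [map_zero, smul_zero]
    rw [h0, sub_zero]
    have h := dco_sub Z hc (j + 1) x hx
    rw [if_neg (Nat.not_even_iff_odd.2 hj.add_one)] at h
    have h2 : act Z (cst (j + 1) (j + 2)) x ∈ Bd Z (ix (j + 3)) := by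
      have := AddSubgroup.sub_mem _ hd h
      rwa [sub_sub_cancel] at this
    have h3 := act_bd Z (cst (j + 2) (j + 1)) h2
    rw [← act_comp, cst_comp] at h3
    have := AddSubgroup.add_mem _ hx' h3
    rwa [sub_add_cancel] at this
  · refine ⟨act Z (cst (j + 1) j) x, act_cycle Z _ hx, ?_⟩
    have h := dco_sub Z hc j _ (act_cycle Z (cst (j + 1) j) hx)
    rw [if_neg hj, ← act_comp, cst_comp] at h
    have := AddSubgroup.sub_mem _ hx' h
    rwa [sub_sub_sub_cancel_right] at this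

include hc in
/-- **The first row is exact.** -/
theorem totExact_rowZero (hcol : ∀ k, TotExact (altCx (Z.obj k))) (hbot : TotExact (R Z (ix 0))) :
    TotExact (R Z (ix 1)) := by
  let T := triCx Z
  let E : ∀ n : ℤ, Dbl.{u} ⥤ CochainComplex AddCommGrpCat.{u} ℤ := fun n =>
    HomologicalComplex.eval (CochainComplex AddCommGrpCat.{u} ℤ) (ComplexShape.up ℤ) n
  let e : ∀ j : ℕ, U T (Int.ofNat j) ≅ R Z (ix (j + 1)) := fun j => altMapIso (E (Int.ofNat j)) (Z ⋙ altFunctor)
  let e' : U T (Int.negSucc 0) ≅ R Z (ix 0) := altMapIso (E (Int.negSucc 0)) (Z ⋙ altFunctor)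
  have hz : ∀ m n q, m < -1 → ∀ x : ((T.X m).X n).X q, x = 0 := fun m n q hm x =>
    (AddCommGrpCat.subsingleton_of_isZero
      ((E n ⋙ HomologicalComplex.eval AddCommGrpCat.{u} (ComplexShape.up ℤ) q).map_isZero
        (isZero_altX (Z ⋙ altFunctor) m hm))).elim _ _
  have hz' : ∀ m n q, n < -1 → ∀ x : ((T.X m).X n).X q, x = 0 := fun m n q hn x => by
    match m, x with
    | Int.ofNat k, x => exact eq_zero_altCx _ n q hn x
    | Int.negSucc 0, x => exact eq_zero_altCx _ n q hn x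
    | Int.negSucc (i + 1), x => exact hz _ n q (by omega) x
  have hT : ∀ m, TotExact (T.X m) := fun m => by
    match m with
    | Int.ofNat k => exact hcol (ix (k + 1))
    | Int.negSucc 0 => exact hcol (ix 0)
    | Int.negSucc (i + 1) => exact totExact_of_subsingleton fun p q x => hz _ p q (by omega) x
  have inv_hom : ∀ j (y : Fam (R Z (ix (j + 1)))), gF (e j).hom (gF (e j).inv y) = y := fun j y =>
    funext fun p => funext fun q =>
      ConcreteCategory.congr_hom (congrArg (fun f : R Z (ix (j + 1)) ⟶ R Z (ix (j + 1)) => (f.f p).f q)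
        (e j).inv_hom_id) _
  have hom_inv : ∀ j (y : Fam (U T (Int.ofNat j))), gF (e j).inv (gF (e j).hom y) = y := fun j y =>
    funext fun p => funext fun q =>
      ConcreteCategory.congr_hom (congrArg (fun f : U T (Int.ofNat j) ⟶ U T (Int.ofNat j) => (f.f p).f q)
        (e j).hom_inv_id) _
  have hd : ∀ (j : ℕ) (x : Fam (U T (Int.ofNat j))),
      gF (e (j + 1)).hom (gF (dU T (Int.ofNat j) (Int.ofNat (j + 1))) x) = dco Z j (gF (e j).hom x) := fun j x => by
    refine funext fun m => funext fun q => ?_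
    have hsum : ∀ (y : Fam (R Z (ix (j + 1)))), dco Z j y m q =
        ∑ i : Fin (j + 2), ((-1 : ℤ) ^ (i : ℕ)) • (((altMap (Z.flip.map (face (j + 1) i))).f m).f q).hom (y m q) :=
      fun y => by
        show (∑ i : Fin (j + 2), ((-1 : ℤ) ^ (i : ℕ)) • act Z (face (j + 1) i) y) m q = _
        simp only [Finset.sum_apply, Pi.smul_apply]
        rfl
    rw [hsum]
    have core : ∀ (W : WithInitial Δ ⥤ CochainComplex AddCommGrpCat.{u} ℤ) (v : (W.obj (ix (j + 1))).X q),
        (((altCx W).d (Int.ofNat j) (Int.ofNat j + 1)).f q).hom v =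
          ∑ i : Fin (j + 2), ((-1 : ℤ) ^ (i : ℕ)) • ((W.map (face (j + 1) i)).f q).hom v := fun W v => by
      rw [altCx_d]
      show ((altDiff W (j + 1)).f q).hom v = _
      rw [altDiff_f, altD, sum_hom_apply]
      rfl
    match m with
    | Int.ofNat k => exact core (Z.obj (ix (k + 1))) (x (Int.ofNat k) q)
    | Int.negSucc 0 => exact core (Z.obj (ix 0)) (x (Int.negSucc 0) q)
    | Int.negSucc (i + 1) => exact (eq_zero_altCx _ _ q (by omega) _).trans (eq_zero_altCx _ _ q (by omega) _).symm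
  have bd : ∀ j (y : Fam (U T (Int.ofNat j))), (∃ a, dTw _ 0 a = y) ↔ gF (e j).hom y ∈ Bd Z (ix (j + 1)) :=
    fun j y => ⟨fun ⟨a, ha⟩ => ⟨gF (e j).hom a, by rw [← gF_dTw, ha]⟩,
      fun ⟨a, ha⟩ => ⟨gF (e j).inv a, by rw [← gF_dTw, ha, hom_inv]⟩⟩
  refine totExact_of_iso (e 0).symm (totExact_corner T hz hz' hT (totExact_of_iso e' hbot) ?_ ?_)
  · intro z hzc
    refine (bd 1 _).2 ?_
    have hzc' : dTw _ 0 (gF (e 0).hom z) = 0 :=
      (gF_dTw (e 0).hom 0 z).symm.trans ((congrArg (gF (e 0).hom) hzc).trans (map_zero _))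
    refine (hd 0 z).symm ▸ ?_
    have h := dco_sub Z hc 0 _ hzc'
    rwa [if_pos Even.zero, sub_zero] at h
  · intro a b c hab hbc ha x hx hy
    obtain ⟨i, rfl⟩ := Int.eq_ofNat_of_zero_le ha
    obtain rfl : b = Int.ofNat (i + 1) := hab.symm
    obtain rfl : c = Int.ofNat (i + 2) := hbc.symm
    have hy' := (bd (i + 2) _).1 hy
    rw [hd (i + 1) x] at hy'
    obtain ⟨w, hw, hw'⟩ := exists_middle Z hc i (gF (e (i + 1)).hom x) (by rw [← gF_dTw, hx, map_zero]) hy'
    refine ⟨gF (e i).inv w, (gF_dTw (e i).inv 0 w).symm.trans ((congrArg (gF (e i).inv) hw).trans (map_zero _)),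
      (bd (i + 1) _).2 ?_⟩
    rw [map_sub]
    refine (hd i (gF (e i).inv w)).symm ▸ ?_
    rw [inv_hom]
    exact hw'

end Groth.Agent.H15Site.DescHyper
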