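import Groth.Agent.H15Site.DescHyper.Aug
import Groth.Agent.H15Site.DescHyper.Family
import Groth.Agent.H15Site.DescHyper.Homotopy
import Groth.Agent.H15Site.IntervalHomotopy

/-!
# The fibre powers of a relatively coskeletal map retract onto the diagonal up to homotopy
-/

set_option autoImplicit false
set_option linter.style.haveILetI false
set_option linter.unusedSectionVars false
set_option backward.isDefEq.respectTransparency false
set_option backward.isDefEq.respectTransparency.types false

universe u

open CategoryTheory CategoryTheory.Limits Opposite Simplicial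
open Groth.Agent.H15Site.OpensFib Groth.Agent.H15Site.DescSimp Groth.Agent.H15Site.DescTri

noncomputable section

namespace Groth.Agent.H15Site.DescHyper

variable {S : TopCat.{u}} {K L : SimplicialObject (Over S)} (φ : K ⟶ L) (j : Δ)

/-- The simplicial space of a fibre power. -/
abbrev Pow : SimplicialObject (Over S) :=
  FibDesc.toAug Δ ⋙ (Bi φ).flip.obj (op (WithInitial.of j))

/-- A projection. -/
def pr (i : Fin (j.len + 1)) : Pow φ j ⟶ K where
  app m := Over.homMk (WidePullback.π (fun _ : Fin (j.len + 1) => (φ.app m).left) i) (by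
    show WidePullback.π (fun _ : Fin (j.len + 1) => (φ.app m).left) i ≫ (K.obj m).hom =
      tB (FibDesc.cechAug (φ.app m).left) (op (WithInitial.of j)) ≫ (L.obj m).hom
    rw [tB_cech, ← Over.w (φ.app m), WidePullback.π_arrow_assoc])
  naturality m m' g := Over.OverMorphism.ext (cechMap_π _ _ _ _ _ j i)

lemma pr_φ (i : Fin (j.len + 1)) (i' : Fin (j.len + 1)) : pr φ j i ≫ φ = pr φ j i' ≫ φ :=
  NatTrans.ext (funext fun m => Over.OverMorphism.ext
    ((WidePullback.π_arrow (fun _ : Fin (j.len + 1) => (φ.app m).left) i).trans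
      (WidePullback.π_arrow (fun _ : Fin (j.len + 1) => (φ.app m).left) i').symm))

/-- The endomorphism of the fibre power through the first factor. -/
abbrev diag : (Bi φ).flip.obj (op (WithInitial.of j)) ⟶ (Bi φ).flip.obj (op (WithInitial.of j)) :=
  (Bi φ).flip.map (WithInitial.incl.map (SimplexCategory.const j j 0)).op

lemma diag_π (m : Δᵒᵖ) (i : Fin (j.len + 1)) :
    ((diag φ j).app ((FibDesc.toAug Δ).obj m)).left ≫ WidePullback.π (fun _ : Fin (j.len + 1) => (φ.app m).left) i =
      WidePullback.π (fun _ : Fin (j.len + 1) => (φ.app m).left) 0 := by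
  show (FibDesc.cechAug (φ.app m).left).map (WithInitial.incl.map (SimplexCategory.const j j 0)).op ≫ _ = _
  rw [CechSplit.map_of]
  exact WidePullback.lift_π _ _ _ _ _

lemma diag_base (m : Δᵒᵖ) :
    ((diag φ j).app ((FibDesc.toAug Δ).obj m)).left ≫ WidePullback.base (fun _ : Fin (j.len + 1) => (φ.app m).left) =
      WidePullback.base (fun _ : Fin (j.len + 1) => (φ.app m).left) := by
  show (FibDesc.cechAug (φ.app m).left).map (WithInitial.incl.map (SimplexCategory.const j j 0)).op ≫ _ = _
  rw [CechSplit.map_of]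
  exact WidePullback.lift_base _ _ _ _

variable {n : ℕ}

theorem nonempty_homotopy_diag (h : Rel φ n) :
    Nonempty (SimplicialObject.Homotopy
      (Functor.whiskerLeft (FibDesc.toAug Δ) (𝟙 ((Bi φ).flip.obj (op (WithInitial.of j)))))
      (Functor.whiskerLeft (FibDesc.toAug Δ) (diag φ j))) := by
  choose H hnat hz ho hφ using fun i : Fin (j.len + 1) =>
    exists_family (F := pr φ j i) (G := pr φ j 0) h (pr_φ φ j i 0)
  let H' : ∀ (m : ℕ), (⦋m⦌ ⟶ ⦋1⦌) → ((Pow φ j) _⦋m⦌ ⟶ (Pow φ j) _⦋m⦌) := fun m t =>
    Over.homMk (WidePullback.lift (WidePullback.base (fun _ : Fin (j.len + 1) => (φ.app (op ⦋m⦌)).left))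
      (fun i => (H i m t).left)
      (fun i => (congrArg CommaMorphism.left (hφ i m t)).trans (WidePullback.π_arrow _ i)))
      (by
        show WidePullback.lift _ _ _ ≫ tB (FibDesc.cechAug (φ.app (op ⦋m⦌)).left) (op (WithInitial.of j)) ≫
            (L.obj (op ⦋m⦌)).hom =
          tB (FibDesc.cechAug (φ.app (op ⦋m⦌)).left) (op (WithInitial.of j)) ≫ (L.obj (op ⦋m⦌)).hom
        rw [tB_cech]
        exact WidePullback.lift_base_assoc _ _ _ _ _)
  have hπ : ∀ m t i, (H' m t).left ≫ WidePullback.π (fun _ : Fin (j.len + 1) => (φ.app (op ⦋m⦌)).left) i =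
      (H i m t).left := fun m t i => WidePullback.lift_π _ _ _ _ _
  have hb : ∀ m t, (H' m t).left ≫ WidePullback.base (fun _ : Fin (j.len + 1) => (φ.app (op ⦋m⦌)).left) =
      WidePullback.base (fun _ : Fin (j.len + 1) => (φ.app (op ⦋m⦌)).left) := fun m t => WidePullback.lift_base _ _ _ _
  refine IntervalHomotopy.nonempty_homotopy_of_family _ _ H' (fun m m' g t => ?_) (fun m => ?_) (fun m => ?_)
  · refine Over.OverMorphism.ext (WidePullback.hom_ext (fun _ : Fin (j.len + 1) => (φ.app (op ⦋m'⦌)).left) _ _
      (fun i => ?_) ?_)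
    · refine (Category.assoc _ _ _).trans ((congrArg (_ ≫ ·) (hπ m' (g ≫ t) i)).trans ?_)
      refine (congrArg CommaMorphism.left (hnat i m m' g t)).trans ?_
      refine Eq.trans ?_ (Category.assoc _ _ _).symm
      refine Eq.trans ?_ (congrArg ((H' m t).left ≫ ·) (congrArg CommaMorphism.left ((pr φ j i).naturality g.op))).symm
      refine Eq.trans ?_ (Category.assoc _ _ _)
      exact congrArg (· ≫ (K.map g.op).left) (hπ m t i).symm
    · refine (Category.assoc _ _ _).trans ((congrArg (_ ≫ ·) (hb m' (g ≫ t))).trans ?_)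
      refine Eq.trans ?_ (Category.assoc _ _ _).symm
      refine Eq.trans ?_ (congrArg ((H' m t).left ≫ ·) (WidePullback.lift_base _ _ _ _)).symm
      refine Eq.trans ?_ (Category.assoc _ _ _)
      refine (WidePullback.lift_base _ _ _ _).trans ?_
      exact congrArg (· ≫ (L.map g.op).left) (hb m t).symm
  · refine Over.OverMorphism.ext (WidePullback.hom_ext (fun _ : Fin (j.len + 1) => (φ.app (op ⦋m⦌)).left) _ _
      (fun i => ?_) ?_)
    · exact ((hπ m _ i).trans (congrArg CommaMorphism.left (hz i m))).trans (Category.id_comp _).symm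
    · exact (hb m _).trans (Category.id_comp _).symm
  · refine Over.OverMorphism.ext (WidePullback.hom_ext (fun _ : Fin (j.len + 1) => (φ.app (op ⦋m⦌)).left) _ _
      (fun i => ?_) ?_)
    · exact ((hπ m _ i).trans (congrArg CommaMorphism.left (ho i m))).trans (diag_π φ j (op ⦋m⦌) i).symm
    · exact (hb m _).trans (diag_base φ j (op ⦋m⦌)).symm

lemma diag_bot : NatTrans.app (𝟙 ((Bi φ).flip.obj (op (WithInitial.of j)))) (FibDesc.bot Δ) = (diag φ j).app (FibDesc.bot Δ) := by
  refine Over.OverMorphism.ext ?_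
  refine WidePullback.hom_ext (fun _ : Fin (j.len + 1) => 𝟙 S) _ _ (fun i => ?_) ?_
  · refine (Category.id_comp _).trans ?_
    show _ = (FibDesc.cechAug (𝟙 S)).map (WithInitial.incl.map (SimplexCategory.const j j 0)).op ≫ _
    rw [CechSplit.map_of]
    rw [CechSplit.pm, WidePullback.lift_π]
    exact ((Category.comp_id _).symm.trans (WidePullback.π_arrow (fun _ : Fin (j.len + 1) => 𝟙 S) i)).trans
      ((Category.comp_id _).symm.trans (WidePullback.π_arrow (fun _ : Fin (j.len + 1) => 𝟙 S) 0)).symm
  · refine (Category.id_comp _).trans ?_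
    show _ = (FibDesc.cechAug (𝟙 S)).map (WithInitial.incl.map (SimplexCategory.const j j 0)).op ≫ _
    rw [CechSplit.map_of]
    exact (WidePullback.lift_base _ _ _ _).symm

/-- Cycles of sections of a fibre power come from the first factor up to boundaries. -/
theorem exists_dTw_diag (h : Rel φ n) (M : Sys S) (V : TopologicalSpace.Opens S)
    (x : Fam (altCx (sectZ M V ((Bi φ).flip.obj (op (WithInitial.of j)))))) (hx : dTw _ 0 x = 0) :
    ∃ y, dTw _ 0 y = gF (sectMap M V (𝟙 ((Bi φ).flip.obj (op (WithInitial.of j))))) x -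
      gF (sectMap M V (diag φ j)) x :=
  exists_dTw_sectMap M V _ _ (diag_bot φ j) (nonempty_homotopy_diag φ j h).some x hx

end Groth.Agent.H15Site.DescHyper
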