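import Groth.Agent.H15Site.DescHyper.Rows
import Groth.Agent.H15Site.DescHyper.RowCorner

/-!
# Exactness of sections passes along relatively coskeletal maps of universal descent
-/

set_option autoImplicit false
set_option linter.style.haveILetI false
set_option linter.unusedSectionVars false
set_option backward.isDefEq.respectTransparency false
set_option backward.isDefEq.respectTransparency.types false

universe u

open CategoryTheory CategoryTheory.Limits Opposite Simplicial TopologicalSpace
open Groth.Agent.H15Site.OpensFib Groth.Agent.H15Site.DescSimp Groth.Agent.H15Site.DescTri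

noncomputable section

namespace Groth.Agent.H15Site.DescHyper

attribute [local instance 10000] SiteInst.hasSheafifySite SiteInst.hasWeakSheafifySite
  SiteInst.hasExtSite SiteInst.enoughInjSite

variable {S : TopCat.{u}}

/-- All complexes of sections of the augmented diagram are exact. -/
def SectExact (K : SimplicialObject (Over S)) : Prop :=
  ∀ (F : CohTop.Ab S) (V : Opens S), TotExact (altCx (sectZ (Sys.ofSheaf F) V (augS K)))

lemma gF_sectMap_id (M : Sys S) (V : Opens S) (C : OpensFib.K Δ ⥤ Over S) (x : Fam (altCx (sectZ M V C))) :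
    gF (sectMap M V (𝟙 C)) x = x := by
  have e : sectMap M V (𝟙 C) = 𝟙 _ :=
    (congrArg altMap (NatTrans.ext (funext fun k => (ΓF M V).map_id _) :
      Functor.whiskerRight (NatTrans.rightOp (𝟙 C)) (ΓF M V) = 𝟙 (sectZ M V C))).trans (altFunctor.map_id _)
  rw [e]
  rfl

theorem sectExact_of_rel {K L : SimplicialObject (Over S)} (φ : K ⟶ L) {n : ℕ} (h : Rel φ n)
    (hn : FibDesc.IsUnivCohDescentMap (φ.app (op ⦋n⦌)).left) (hL : SectExact L) : SectExact K := by
  intro F V
  let M := Sys.ofSheaf (S := S) F
  let C := Bi φ
  let Z := biSect M V C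
  have hcol : ∀ k, TotExact (altCx (Z.obj k)) := fun k => by
    refine totExact_sectZ_of_descent V (FibDesc.cechAug ((augMap φ).app (op k)).left)
      ((augS L).obj (op k)).hom F ?_
    match k with
    | .star => exact CechSplit.isCohDescentMap_of_section (𝟙 S) (𝟙 S) (Category.id_comp _)
    | .of m => exact isCohDescentMap_of_univ (isUnivCohDescentMap_level h hn m.len)
  have hc : ∀ (j : ℕ) (x : Fam (R Z (ix (j + 1)))), dTw _ 0 x = 0 → x - act Z (cst j j) x ∈ Bd Z (ix (j + 1)) := by
    intro j x hx
    obtain ⟨y, hy⟩ := exists_dTw_diag φ ⦋j⦌ h M V x hx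
    rw [gF_sectMap_id] at hy
    exact ⟨y, hy⟩
  have hb : TotExact (altCx (sectZ M V (C.flip.obj (FibDesc.bot Δ)))) :=
    totExact_of_iso (sectIso M V (biRowBot φ)) (hL F V)
  have e : Z.flip.obj WithInitial.star = sectZ M V (C.flip.obj (FibDesc.bot Δ)) := rfl
  have hb' : TotExact (altCx (Z.flip.obj WithInitial.star)) := e ▸ hb
  have hbot : TotExact (R Z (ix 0)) := hb'
  exact totExact_of_iso (sectIso M V (biRowZero φ)).symm (totExact_rowZero Z hc hcol hbot)

end Groth.Agent.H15Site.DescHyper
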