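import Groth.Agent.H15Site.DescHyper.Step

/-!
# Exactness of sections is detected by low degrees
-/

set_option autoImplicit false
set_option linter.style.haveILetI false
set_option linter.unusedSectionVars false
set_option backward.isDefEq.respectTransparency false
set_option backward.isDefEq.respectTransparency.types false

universe u

open CategoryTheory CategoryTheory.Limits Opposite Simplicial TopologicalSpace
open Groth.Agent.H15Site.DoubleSS (Dbl sgn)
open Groth.Agent.H15Site.OpensFib Groth.Agent.H15Site.DescSimp Groth.Agent.H15Site.DescTri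

noncomputable section

namespace Groth.Agent.H15Site.DescHyper

/-- Exactness from maps which are bijective in bounded first degree. -/
theorem totExact_of_low {D : Dbl.{u}} (hq : ∀ p q, q < 0 → ∀ x : (D.X p).X q, x = 0)
    (h : ∀ n : ℕ, ∃ (D' : Dbl.{u}) (g : D' ⟶ D), TotExact D' ∧ (∀ p q, q < 0 → ∀ x : (D'.X p).X q, x = 0) ∧
      ∀ p, p ≤ (n : ℤ) → ∀ q, Function.Bijective ((g.f p).f q).hom) : TotExact D := by
  classical
  intro x hx
  have key : ∀ d : ℤ, ∃ Y : Fam D, ∀ p q, p + q = d → dTw D 0 Y p q = x p q := by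
    intro d
    obtain ⟨D', g, hD', hq', hb⟩ := h (d + 2).toNat
    let n : ℤ := ((d + 2).toNat : ℤ)
    have hn : d + 2 ≤ n := Int.self_le_toNat _
    let x' : Fam D' := fun p q => if hh : p + q = d ∧ p ≤ n then ((hb p hh.2 q).2 (x p q)).choose else 0
    have gx : ∀ p q, ((g.f p).f q).hom (x' p q) = if p + q = d ∧ p ≤ n then x p q else 0 := fun p q => by
      simp only [x']
      split_ifs with hh
      · exact ((hb p hh.2 q).2 (x p q)).choose_spec
      · exact map_zero _
    have hx' : dTw D' 0 x' = 0 := by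
      funext p q
      rcases lt_or_ge q 0 with hq0 | hq0
      · exact hq' p q hq0 _
      by_cases hd : p + q = d + 1
      · refine (hb p (show p ≤ n by omega) q).1 ?_
        refine (congrFun (congrFun (gF_dTw g 0 x') p) q).trans (Eq.trans ?_ (map_zero ((g.f p).f q).hom).symm)
        have e1 : gF g x' (p - 1) q = x (p - 1) q := (gx _ _).trans (if_pos ⟨by omega, by omega⟩)
        have e2 : gF g x' p (q - 1) = x p (q - 1) := (gx _ _).trans (if_pos ⟨by omega, by omega⟩)
        show ((D.d (p - 1) p).f q).hom (gF g x' (p - 1) q) +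
          (sgn p * sgn 0) • ((D.X p).d (q - 1) q).hom (gF g x' p (q - 1)) = 0
        rw [e1, e2]
        exact congrFun (congrFun hx p) q
      · show ((D'.d (p - 1) p).f q).hom (x' (p - 1) q) + (sgn p * sgn 0) • ((D'.X p).d (q - 1) q).hom (x' p (q - 1)) = 0
        simp only [x']
        rw [dif_neg (fun hh => hd (by omega)), dif_neg (fun hh => hd (by omega)), map_zero, map_zero, smul_zero, add_zero]
    obtain ⟨y, hy⟩ := hD' x' hx'
    refine ⟨gF g y, fun p q hpq => ?_⟩
    rcases lt_or_ge q 0 with hq0 | hq0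
    · exact (hq p q hq0 _).trans (hq p q hq0 _).symm
    · rw [← gF_dTw, hy]
      exact (gx p q).trans (if_pos ⟨hpq, by omega⟩)
  choose Y hY using key
  refine ⟨fun p q => Y (p + q + 1) p q, funext fun p => funext fun q => ?_⟩
  show ((D.d (p - 1) p).f q).hom (Y (p - 1 + q + 1) (p - 1) q) +
    (sgn p * sgn 0) • ((D.X p).d (q - 1) q).hom (Y (p + (q - 1) + 1) p (q - 1)) = x p q
  rw [show p - 1 + q + 1 = p + q by ring, show p + (q - 1) + 1 = p + q by ring]
  exact hY (p + q) p q rfl

variable {S : TopCat.{u}}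

lemma eq_zero_sectZ (M : Sys S) (V : Opens S) (C : OpensFib.K Δ ⥤ Over S) (p q : ℤ) (hq : q < 0)
    (x : ((altCx (sectZ M V C)).X p).X q) : x = 0 := by
  obtain ⟨j, rfl⟩ := Int.eq_negSucc_of_lt_zero hq
  match p, x with
  | Int.ofNat k, x => exact (AddCommGrpCat.subsingleton_of_isZero (isZero_ΓX M V (C.obj (op (ix (k + 1)))) j)).elim _ _
  | Int.negSucc 0, x => exact (AddCommGrpCat.subsingleton_of_isZero (isZero_ΓX M V (C.obj (op (ix 0))) j)).elim _ _
  | Int.negSucc (i + 1), x => exact eq_zero_altCx _ _ _ (by omega) x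

/-- Exactness is detected by maps which are isomorphisms in low degrees. -/
theorem sectExact_of_low {K : SimplicialObject (Over S)}
    (h : ∀ n : ℕ, ∃ (K' : SimplicialObject (Over S)) (ψ : K ⟶ K'), SectExact K' ∧
      ∀ p, p ≤ n → IsIso (ψ.app (op ⦋p⦌))) : SectExact K := by
  intro F V
  let M := Sys.ofSheaf (S := S) F
  refine totExact_of_low (fun p q hq x => eq_zero_sectZ M V (augS K) p q hq x) fun n => ?_
  obtain ⟨K', ψ, hK', hiso⟩ := h n
  refine ⟨altCx (sectZ M V (augS K')), sectMap M V (augMap ψ), hK' F V,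
    fun p q hq x => eq_zero_sectZ M V (augS K') p q hq x, fun p hp q => ?_⟩
  suffices IsIso (((sectMap M V (augMap ψ)).f p).f q) from ConcreteCategory.bijective_of_isIso _
  suffices IsIso ((sectMap M V (augMap ψ)).f p) from
    inferInstanceAs (IsIso ((HomologicalComplex.eval AddCommGrpCat.{u} (ComplexShape.up ℤ) q).map
      ((sectMap M V (augMap ψ)).f p)))
  match p, hp with
  | Int.ofNat k, hp =>
    haveI : IsIso (ψ.app (op ⦋k⦌)) := hiso k (by simpa using hp)
    exact inferInstanceAs (IsIso ((ΓF M V).map (ψ.app (op ⦋k⦌)).op))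
  | Int.negSucc 0, _ =>
    exact inferInstanceAs (IsIso ((ΓF M V).map (𝟙 (Over.mk (𝟙 S))).op))
  | Int.negSucc (i + 1), _ =>
    exact ⟨⟨0, (isZero_altX (sectZ M V (augS K')) (Int.negSucc (i + 1)) (by omega)).eq_of_src _ _,
      (isZero_altX (sectZ M V (augS K)) (Int.negSucc (i + 1)) (by omega)).eq_of_src _ _⟩⟩

end Groth.Agent.H15Site.DescHyper
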