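import Groth.Agent.H15Site.DescHyper.Rel
import Groth.Agent.H15Site.DescTri.Univ

/-!
# Levels of relatively coskeletal maps of simplicial spaces are of universal descent
-/

set_option autoImplicit false
set_option linter.style.haveILetI false
set_option linter.unusedSectionVars false
set_option backward.isDefEq.respectTransparency false
set_option backward.isDefEq.respectTransparency.types false

universe u

open CategoryTheory CategoryTheory.Limits Opposite Simplicial
open Groth.Agent.H15Site.DescTri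

noncomputable section

namespace Groth.Agent.H15Site.DescHyper

attribute [local instance 10000] SiteInst.hasSheafifySite SiteInst.hasWeakSheafifySite
  SiteInst.hasExtSite SiteInst.enoughInjSite

theorem isUnivCohDescentMap_of_isIso {X S : TopCat.{u}} (f : X ⟶ S) [IsIso f] : FibDesc.IsUnivCohDescentMap f :=
  fun T t => CechSplit.isCohDescentMap_of_section (pullback.snd f t)
    (pullback.lift (t ≫ inv f) (𝟙 T) (by simp)) (pullback.lift_snd _ _ _)

variable {S : TopCat.{u}} {K L : SimplicialObject (Over S)} {φ : K ⟶ L} {n : ℕ}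

/-- Fibre products of prescribed simplices. -/
def IsFill {p : ℕ} (A : Finset (⦋n⦌ ⟶ ⦋p⦌)) {P : Over S} (q : P ⟶ L _⦋p⦌)
    (k : ∀ σ ∈ A, P ⟶ K _⦋n⦌) (_ : ∀ σ h, k σ h ≫ φ.app (op ⦋n⦌) = q ≫ L.map σ.op) : Prop :=
  ∀ (W : Over S) (l : W ⟶ L _⦋p⦌) (k' : ∀ σ ∈ A, W ⟶ K _⦋n⦌),
    (∀ σ h, k' σ h ≫ φ.app (op ⦋n⦌) = l ≫ L.map σ.op) →
      ∃! m : W ⟶ P, m ≫ q = l ∧ ∀ σ h, m ≫ k σ h = k' σ h

theorem exists_fill (hn : FibDesc.IsUnivCohDescentMap (φ.app (op ⦋n⦌)).left) (p : ℕ)
    (A : Finset (⦋n⦌ ⟶ ⦋p⦌)) :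
    ∃ (P : Over S) (q : P ⟶ L _⦋p⦌) (k : ∀ σ ∈ A, P ⟶ K _⦋n⦌)
      (hk : ∀ σ h, k σ h ≫ φ.app (op ⦋n⦌) = q ≫ L.map σ.op),
      FibDesc.IsUnivCohDescentMap q.left ∧ IsFill A q k hk := by
  classical
  induction A using Finset.induction with
  | empty =>
    refine ⟨L _⦋p⦌, 𝟙 _, fun σ h => absurd h (Finset.notMem_empty σ),
      fun σ h => absurd h (Finset.notMem_empty σ), ?_, fun W l k' _ => ?_⟩
    · haveI : IsIso (CommaMorphism.left (𝟙 (L _⦋p⦌) : L _⦋p⦌ ⟶ L _⦋p⦌)) := IsIso.id _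
      exact isUnivCohDescentMap_of_isIso _
    · exact ⟨l, ⟨Category.comp_id l, fun σ h => absurd h (Finset.notMem_empty σ)⟩,
        fun m hm => (Category.comp_id m).symm.trans hm.1⟩
  | insert τ B hτ ih =>
    obtain ⟨P, q, k, hk, hq, hP⟩ := ih
    let r : P ⟶ L _⦋n⦌ := q ≫ L.map τ.op
    let Q := pullback (φ.app (op ⦋n⦌)).left r.left
    let P' : Over S := Over.mk (pullback.snd (φ.app (op ⦋n⦌)).left r.left ≫ P.hom : Q ⟶ S)
    let π : P' ⟶ P := Over.homMk (pullback.snd (φ.app (op ⦋n⦌)).left r.left) rfl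
    let κ : P' ⟶ K _⦋n⦌ := Over.homMk (pullback.fst (φ.app (op ⦋n⦌)).left r.left) (by
      show _ = pullback.snd (φ.app (op ⦋n⦌)).left r.left ≫ P.hom
      rw [← Over.w (φ.app (op ⦋n⦌)), ← Over.w r, pullback.condition_assoc])
    have hκ : κ ≫ φ.app (op ⦋n⦌) = π ≫ r := Over.OverMorphism.ext pullback.condition
    let k₂ : ∀ σ ∈ insert τ B, P' ⟶ K _⦋n⦌ := fun σ h =>
      if e : σ = τ then κ else π ≫ k σ ((Finset.mem_insert.1 h).resolve_left e)
    have hk₂ : ∀ σ h, k₂ σ h ≫ φ.app (op ⦋n⦌) = (π ≫ q) ≫ L.map σ.op := fun σ h => by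
      simp only [k₂]
      split_ifs with e
      · subst e; rw [hκ, Category.assoc]
      · rw [Category.assoc, hk, Category.assoc]
    refine ⟨P', π ≫ q, k₂, hk₂, ?_, fun W l k' hk' => ?_⟩
    · exact isUnivCohDescentMap_comp (isUnivCohDescentMap_snd hn r.left) hq
    · obtain ⟨m, ⟨hm, hmk⟩, hmu⟩ := hP W l (fun σ h => k' σ (Finset.mem_insert_of_mem h))
        (fun σ h => hk' σ _)
      have hc : k' τ (Finset.mem_insert_self τ B) ≫ φ.app (op ⦋n⦌) = m ≫ r := by
        rw [hk', ← hm, Category.assoc]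
      let m' : W ⟶ P' := Over.homMk (pullback.lift (k' τ (Finset.mem_insert_self τ B)).left m.left
        (congrArg CommaMorphism.left hc)) (by
        show pullback.lift _ _ _ ≫ pullback.snd _ _ ≫ P.hom = W.hom
        rw [pullback.lift_snd_assoc]
        exact Over.w m)
      have hπ : m' ≫ π = m := Over.OverMorphism.ext (pullback.lift_snd _ _ _)
      have hκ' : m' ≫ κ = k' τ (Finset.mem_insert_self τ B) := Over.OverMorphism.ext (pullback.lift_fst _ _ _)
      refine ⟨m', ⟨by rw [← Category.assoc, hπ, hm], fun σ h => ?_⟩, fun y hy => ?_⟩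
      · simp only [k₂]
        split_ifs with e
        · subst e; exact hκ'
        · rw [← Category.assoc, hπ, hmk]
      · refine Over.OverMorphism.ext (pullback.hom_ext ?_ ?_)
        · refine Eq.trans ?_ (congrArg CommaMorphism.left hκ').symm
          have := hy.2 τ (Finset.mem_insert_self τ B)
          simp only [k₂, dif_pos] at this
          exact congrArg CommaMorphism.left this
        · refine Eq.trans ?_ (congrArg CommaMorphism.left hπ).symm
          refine congrArg CommaMorphism.left (hmu (y ≫ π) ⟨by rw [Category.assoc]; exact hy.1, fun σ h => ?_⟩)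
          have := hy.2 σ (Finset.mem_insert_of_mem h)
          simp only [k₂, dif_neg (fun e : σ = τ => hτ (e ▸ h))] at this
          rw [Category.assoc]
          exact this

/-- All levels are of universal descent. -/
theorem isUnivCohDescentMap_level (h : Rel φ n) (hn : FibDesc.IsUnivCohDescentMap (φ.app (op ⦋n⦌)).left) (p : ℕ) :
    FibDesc.IsUnivCohDescentMap (φ.app (op ⦋p⦌)).left := by
  classical
  haveI : Fintype (⦋n⦌ ⟶ ⦋p⦌) := Fintype.ofFinite _
  let A : Finset (⦋n⦌ ⟶ ⦋p⦌) := Finset.univ.filter Mono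
  obtain ⟨P, q, k, hk, hq, hP⟩ := exists_fill (L := L) hn p A
  have hA : ∀ σ, Mono σ → σ ∈ A := fun σ hσ => Finset.mem_filter.2 ⟨Finset.mem_univ σ, hσ⟩
  obtain ⟨a, ha, ha'⟩ := h.lift q (fun σ hσ => k σ (hA σ hσ)) (fun σ _ => hk σ _)
  obtain ⟨b, ⟨hb, hb'⟩, _⟩ := hP _ (φ.app (op ⦋p⦌)) (fun σ _ => K.map σ.op)
    (fun σ _ => φ.naturality σ.op)
  have hba : b ≫ a = 𝟙 _ := h.ext _ _ (by rw [Category.assoc, ha, hb, Category.id_comp])
    (fun σ hσ => by rw [Category.assoc, ha' σ hσ, hb', Category.id_comp])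
  have hab : a ≫ b = 𝟙 _ := by
    obtain ⟨m, _, hmu⟩ := hP P q k hk
    rw [hmu (a ≫ b) ⟨by rw [Category.assoc, hb, ha], fun σ hσ => by
        rw [Category.assoc, hb', ha' σ (Finset.mem_filter.1 hσ).2]⟩]
    exact (hmu (𝟙 P) ⟨Category.id_comp q, fun σ hσ => Category.id_comp _⟩).symm
  haveI : IsIso b := ⟨⟨a, hba, hab⟩⟩
  haveI : IsIso b.left := inferInstanceAs (IsIso ((Over.forget S).map b))
  rw [show (φ.app (op ⦋p⦌)).left = b.left ≫ q.left from (congrArg CommaMorphism.left hb).symm]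
  exact isUnivCohDescentMap_comp (isUnivCohDescentMap_of_isIso b.left) hq

end Groth.Agent.H15Site.DescHyper
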